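import Mathlib
import Cfsg.Agent.CpAutON.Gen
import Cfsg.Agent.BpSpor.Cen
import Cfsg.Agent.PLocal.CoprimeLift
import Cfsg.Agent.Lib.CoprimeHyperplane
import Cfsg.Agent.S0547
import Cfsg.Agent.H555.AltTwo.Base
import Cfsg.Agent.SylowL5.TypeAGen
import Cfsg.Agent.H353.TwoLong_m3
import Cfsg.Agent.H221.ClassCount
import Cfsg.Agent.H341.ThreeList_m3
import Cfsg.Prelude.Def_KGroupFacts
import Cfsg.Agent.H970.TwoSporBase_m3
import Cfsg.Agent.FastGrp
import Cfsg.Agent.Prune
set_option linter.all false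

section
prune_inst 0x7f00000000000000000000000000000000000000000000000000000000000000000000000000000000000000000000000000000000000000000000000000000000000000000000000000000000000000003fffffffffffffffffffffffffffbeffbdffffffff

-- part: H510/TwoCore
section
set_option linter.all false
open scoped Cfsg.Agent.FastGrp

-- part: H510/TwoSieve
section
/-!
# The 2-part sieve (helper510)

`sieve`: `X` finite, `P` a nonempty finite set of odd primes dividing `|X|` exactly once, `2 ^ (c p + 1) ∤ |C(x p)|` for an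
element `x p` of order `p` (`c p = 0`: no element of order `2 p`).  Then the 2-part of `|X|` is `2 ^ (A + v₂(s) + b)` with
`2 ^ A ≡ 2 ^ i mod p` (`i ≤ c p`) for all `p ∈ P`, `s = 1` or `s` the order of a nonabelian simple group dividing `|X|`,
`b ≤ v₂(p - 1) + c p` for some `p ∈ P`.
-/

set_option autoImplicit false

namespace Cfsg.Agent.H510.TwoSieve

open Subgroup

universe u

/-- the power of 2 in the order of a subgroup normalized by an element of order `p` -/
theorem two_part {X : Type u} [Group X] [Finite X] {p : ℕ} (hp : p.Prime) {x : X} (hx : orderOf x = p)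
    {N : Subgroup X} (hxN : ∀ n ∈ N, x * n * x⁻¹ ∈ N) (hpN : ¬ p ∣ Nat.card ↥N) :
    ∃ j, 2 ^ j ∣ Nat.card ↥(N ⊓ centralizer ({x} : Set X)) ∧
      2 ^ (Nat.card ↥N).factorization 2 ≡ 2 ^ j [MOD p] := by
  have := Fact.mk hp
  have h1 : IsPGroup p ↥(zpowers x) := IsPGroup.of_card (n := 1) (by rw [Nat.card_zpowers, hx, pow_one])
  have h2 : zpowers x ≤ normalizer (N : Set X) := by
    rw [zpowers_le]
    have h3 : x ∈ normalizer (N : Set X) := by
      rw [mem_normalizer_iff]
      have h4 : ∀ k : ℕ, ∀ n ∈ N, x ^ k * n * (x ^ k)⁻¹ ∈ N := by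
        intro k
        induction k with
        | zero => intro n hn; simpa using hn
        | succ k ih =>
          intro n hn
          have := hxN _ (ih n hn)
          have h5 : x ^ (k + 1) * n * (x ^ (k + 1))⁻¹ = x * (x ^ k * n * (x ^ k)⁻¹) * x⁻¹ := by
            rw [pow_succ']; group
          rw [h5]; exact this
      intro n
      refine ⟨fun hn => hxN n hn, fun hn => ?_⟩
      have h5 := h4 (p - 1) _ hn
      have h6 : x ^ (p - 1) * x = 1 := by
        rw [← pow_succ, Nat.sub_add_cancel hp.one_le, ← hx, pow_orderOf_eq_one]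
      have h7 : x ^ (p - 1) * (x * n * x⁻¹) * (x ^ (p - 1))⁻¹ = n := by
        have : x ^ (p - 1) * (x * n * x⁻¹) * (x ^ (p - 1))⁻¹ = (x ^ (p - 1) * x) * n * (x ^ (p - 1) * x)⁻¹ := by group
        rw [this, h6]; group
      rwa [h7] at h5
    exact h3
  obtain ⟨S, hS⟩ := Cfsg.Agent.Lib.CoprimeHyperplane.exists_invariant_sylow h1 h2 hpN 2
  set R : Subgroup X := (S : Subgroup ↥N).map N.subtype with hR
  have hRN : R ≤ N := by
    rw [hR]; exact map_subtype_le _
  have hcard : Nat.card ↥R = 2 ^ (Nat.card ↥N).factorization 2 := by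
    rw [hR, ← Nat.card_congr (equivMapOfInjective _ _ N.subtype_injective).toEquiv]
    exact Sylow.card_eq_multiplicity S
  have hxR : ∀ n ∈ R, x * n * x⁻¹ ∈ R := fun n hn =>
    (mem_normalizer_iff.1 (hS (mem_zpowers x)) n).1 hn
  have h3 := Cfsg.Agent.BpSpor.Cen.card_fix hx hxR
  have h4 : Nat.card ↥(R ⊓ centralizer ({x} : Set X)) ∣ 2 ^ (Nat.card ↥N).factorization 2 := by
    rw [← hcard]; exact card_dvd_of_le inf_le_left
  obtain ⟨j, -, hj⟩ := (Nat.dvd_prime_pow Nat.prime_two).1 h4
  refine ⟨j, ?_, ?_⟩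
  · rw [← hj]
    exact card_dvd_of_le (inf_le_inf_right _ hRN)
  · rw [← hcard, ← hj]; exact h3

/-- `|C_X(x)| = |C_N(x)| |C_{X/N}(x)|` for a normal `p'`-subgroup `N` -/
theorem card_cent {X : Type u} [Group X] [Finite X] {p : ℕ} (hp : p.Prime) {x : X} (hx : orderOf x = p)
    (N : Subgroup X) [N.Normal] (hpN : ¬ p ∣ Nat.card ↥N) :
    Nat.card ↥(centralizer ({x} : Set X)) = Nat.card ↥(N ⊓ centralizer ({x} : Set X)) *
      Nat.card ↥(centralizer ({(QuotientGroup.mk' N x)} : Set (X ⧸ N))) := by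
  have := Fact.mk hp
  have h1 : IsPGroup p ↥(zpowers x) := IsPGroup.of_card (n := 1) (by rw [Nat.card_zpowers, hx, pow_one])
  have h2 := Cfsg.Agent.PLocal.CoprimeLift.map_centralizer_mk N (zpowers x)
    ((Nat.Prime.coprime_iff_not_dvd hp).2 hpN).symm h1
  have h3 : centralizer ((zpowers x : Subgroup X) : Set X) = centralizer ({x} : Set X) := by
    rw [zpowers_eq_closure, centralizer_closure]
  have h4 : ((zpowers x).map (QuotientGroup.mk' N)) = zpowers (QuotientGroup.mk' N x) := MonoidHom.map_zpowers _ _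
  have h5 : centralizer ((zpowers (QuotientGroup.mk' N x) : Subgroup (X ⧸ N)) : Set (X ⧸ N)) =
      centralizer ({(QuotientGroup.mk' N x)} : Set (X ⧸ N)) := by
    rw [zpowers_eq_closure, centralizer_closure]
  rw [h3, h4, h5] at h2
  rw [← h2]
  set C := centralizer ({x} : Set X)
  have h6 := (((QuotientGroup.mk' N).comp C.subtype).ker).card_mul_index
  have h7 : Nat.card ↥(((QuotientGroup.mk' N).comp C.subtype).ker) = Nat.card ↥(N ⊓ C) := by
    have : ((QuotientGroup.mk' N).comp C.subtype).ker = N.subgroupOf C := by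
      rw [← MonoidHom.comap_ker, QuotientGroup.ker_mk']; rfl
    rw [this, ← inf_subgroupOf_right]
    exact Nat.card_congr (subgroupOfEquivOfLe inf_le_right).toEquiv
  have h8 : ((QuotientGroup.mk' N).comp C.subtype).ker.index = Nat.card ↥(C.map (QuotientGroup.mk' N)) := by
    rw [index_ker, MonoidHom.range_comp, range_subtype]
  rw [← h6, h7, h8]

/-- the conclusion of the sieve -/
def Concl (P : Finset ℕ) (c : ℕ → ℕ) (X : Type u) [Group X] : Prop :=
  ∃ A b s : ℕ, (Nat.card X).factorization 2 = A + s.factorization 2 + b ∧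
    (∀ p ∈ P, ∃ i ≤ c p, 2 ^ A ≡ 2 ^ i [MOD p]) ∧ (∃ p ∈ P, b ≤ (p - 1).factorization 2 + c p) ∧
    (s = 1 ∨ ((∃ p ∈ P, p ∣ s) ∧ ∃ (S : Type u) (_ : Group S), Finite S ∧ IsSimpleGroup S ∧
      ¬ IsMulCommutative S ∧ Nat.card S = s ∧ s ∣ Nat.card X)) ∧
    ∀ p ∈ P, p ∣ s ∨ ∃ i ≤ c p, 2 ^ s.factorization 2 ≡ 2 ^ i [MOD p]

/-- `|N(⟨x⟩)|` has 2-part at most `2 ^ (c + v₂(p - 1))` -/
theorem normalizer_two {X : Type u} [Group X] [Finite X] {p c : ℕ} (hp : p.Prime) {x : X} (hx : orderOf x = p)
    (hc : ¬ 2 ^ (c + 1) ∣ Nat.card ↥(centralizer ({x} : Set X))) :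
    (Nat.card ↥(normalizer ((zpowers x : Subgroup X) : Set X))).factorization 2 ≤ (p - 1).factorization 2 + c := by
  have := Fact.mk hp
  have h1 := Cfsg.Agent.CpAutON.Gen.card_normalizer x
  have h2 : Nat.card ↥((zpowers x).normalizerMonoidHom).range ∣ p - 1 := by
    rw [← Cfsg.Agent.CpAutON.Gen.card_mulAut hx]
    exact card_subgroup_dvd_card _
  have hp1 : p - 1 ≠ 0 := by have := hp.two_le; omega
  have h3 : (Nat.card ↥(centralizer ({x} : Set X))).factorization 2 ≤ c := by
    by_contra hcon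
    exact hc ((Nat.Prime.pow_dvd_iff_le_factorization Nat.prime_two Nat.card_pos.ne').2 (by omega))
  rw [h1, Nat.factorization_mul Nat.card_pos.ne' Nat.card_pos.ne', Finsupp.add_apply]
  have h4 := (Nat.factorization_le_iff_dvd Nat.card_pos.ne' hp1).2 h2 2
  omega

/-- a minimal normal subgroup of order divisible by `p` exactly once is simple -/
theorem isSimple_of_minimal {X : Type u} [Group X] [Finite X] {p : ℕ} (hp : p.Prime) (h2 : ¬ p ^ 2 ∣ Nat.card X)
    (N : Subgroup X) [hN : N.Normal] (hmin : ∀ M : Subgroup X, M.Normal → M ≤ N → M = ⊥ ∨ M = N)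
    (hpN : p ∣ Nat.card ↥N) : IsSimpleGroup ↥N := by
  have := Fact.mk hp
  have hnt : Nontrivial ↥N := by
    rw [← Finite.one_lt_card_iff_nontrivial]
    exact lt_of_lt_of_le hp.one_lt (Nat.le_of_dvd Nat.card_pos hpN)
  refine ⟨fun M hM => ?_⟩
  by_cases hpM : p ∣ Nat.card ↥M
  · -- `M` contains all elements of order `p`
    right
    set E : Set X := {y | y ∈ N ∧ y ^ p = 1} with hE
    have hEn : (closure E).Normal := by
      refine ⟨fun a ha g => ?_⟩
      have h3 : (closure E).map (MulAut.conj g).toMonoidHom = closure E := by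
        rw [MonoidHom.map_closure]
        congr 1
        ext y
        simp only [Set.mem_image, hE, Set.mem_ofPred_eq, MulEquiv.coe_toMonoidHom, MulAut.conj_apply]
        constructor
        · rintro ⟨z, ⟨hz, hz1⟩, rfl⟩
          exact ⟨hN.conj_mem z hz g, by rw [conj_pow, hz1]; group⟩
        · rintro ⟨hy, hy1⟩
          refine ⟨g⁻¹ * y * g, ⟨by simpa using hN.conj_mem y hy g⁻¹, ?_⟩, by group⟩
          have : g⁻¹ * y * g = g⁻¹ * y * g⁻¹⁻¹ := by rw [inv_inv]
          rw [this, conj_pow, hy1]; group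
      rw [← h3]
      exact ⟨a, ha, rfl⟩
    have hEN : closure E ≤ N := (closure_le _).2 fun y hy => hy.1
    obtain ⟨y, hy⟩ := exists_prime_orderOf_dvd_card' p hpN
    have hE1 : closure E = N := by
      rcases hmin _ hEn hEN with h | h
      · exfalso
        have hy1 : (y : X) ∈ closure E := subset_closure ⟨y.2, by
          have := pow_orderOf_eq_one y
          rw [hy] at this
          exact_mod_cast congrArg Subtype.val this⟩
        rw [h, mem_bot] at hy1
        have : y = 1 := Subtype.ext hy1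
        rw [this, orderOf_one] at hy
        exact hp.one_lt.ne hy
      · exact h
    have h2N : ¬ p ^ 2 ∣ Nat.card ↥N := fun h => h2 (h.trans (card_subgroup_dvd_card N))
    -- all elements of order `p` of `N` are in `M`
    obtain ⟨m, hm⟩ := exists_prime_orderOf_dvd_card' p hpM
    have hm' : orderOf (m : ↥N) = p := by rw [← hm]; exact orderOf_injective M.subtype M.subtype_injective m
    have hall : ∀ y : ↥N, y ^ p = 1 → y ∈ M := by
      intro y hy
      by_cases hy1 : y = 1
      · rw [hy1]; exact one_mem _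
      have hyo : orderOf y = p := orderOf_eq_prime hy hy1
      obtain ⟨g, hg⟩ := Cfsg.Agent.CpAutON.Gen.conj_into h2N hyo hm'
      have h4 : g * y * g⁻¹ ∈ M := (zpowers_le.2 m.2) hg
      have h5 := hM.conj_mem _ h4 g⁻¹
      have h6 : g⁻¹ * (g * y * g⁻¹) * g⁻¹⁻¹ = y := by group
      rwa [h6] at h5
    rw [eq_top_iff]
    intro z _
    have hz : (z : X) ∈ _root_.Subgroup.closure E := by rw [hE1]; exact z.2
    have h7 : closure E ≤ M.map N.subtype := by
      rw [closure_le]
      rintro y ⟨hyN, hy1⟩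
      exact ⟨⟨y, hyN⟩, hall ⟨y, hyN⟩ (Subtype.ext hy1), rfl⟩
    obtain ⟨w, hw, hwz⟩ := h7 hz
    have : w = z := Subtype.ext hwz
    rwa [← this]
  · -- the product of the conjugates of `M` is a proper normal subgroup
    left
    set K : Subgroup X := ⨆ g : X, (M.map N.subtype).map (MulAut.conj g).toMonoidHom with hK
    have hKn : K.Normal := by
      refine ⟨fun a ha g => ?_⟩
      have h3 : K.map (MulAut.conj g).toMonoidHom ≤ K := by
        rw [hK, Subgroup.map_iSup]
        refine iSup_le fun h => ?_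
        refine le_trans ?_ (le_iSup _ (g * h))
        rw [map_map]
        refine le_of_eq ?_
        congr 1
        ext y
        simp [mul_assoc]
      exact h3 ⟨a, ha, rfl⟩
    have hKN : K ≤ N := by
      rw [hK]
      refine iSup_le fun g => ?_
      rintro _ ⟨_, ⟨m, _, rfl⟩, rfl⟩
      exact hN.conj_mem _ m.2 g
    have hcop : ¬ p ∣ Nat.card ↥K := by
      -- finite product of normal `p'`-subgroups of `N`
      have key : ∀ (s : Finset X), ∃ L : Subgroup ↥N, L.Normal ∧ ¬ p ∣ Nat.card ↥L ∧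
          ∀ g ∈ s, (M.map N.subtype).map (MulAut.conj g).toMonoidHom ≤ L.map N.subtype := by
        intro s
        classical
        induction s using Finset.induction_on with
        | empty => exact ⟨⊥, inferInstance, by rw [card_bot]; exact hp.one_lt.ne' ∘ Nat.dvd_one.1, by simp only [_root_.Finset.notMem_empty, _root_.MulEquiv.toMonoidHom_eq_coe, _root_.Subgroup.map_bot, _root_.le_bot_iff, _root_.IsEmpty.forall_iff, _root_.implies_true]⟩
        | insert g s hg ih =>
          obtain ⟨L, hL, hLp, hLs⟩ := ih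
          set Mg : Subgroup ↥N := M.map (MulAut.conjNormal g : MulAut ↥N).toMonoidHom with hMg
          have hMgn : Mg.Normal := hM.map _ (MulAut.conjNormal g : MulAut ↥N).surjective
          have hMgp : ¬ p ∣ Nat.card ↥Mg := by
            rw [hMg, ← Nat.card_congr (equivMapOfInjective M (MulAut.conjNormal g : MulAut ↥N).toMonoidHom
              (MulAut.conjNormal g : MulAut ↥N).injective).toEquiv]
            exact hpM
          refine ⟨L ⊔ Mg, inferInstance, ?_, ?_⟩
          · intro h
            have h4 : Nat.card ↥(L ⊔ Mg) ∣ Nat.card ↥L * Nat.card ↥Mg := by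
              rw [← relIndex_bot_left, ← relIndex_bot_left, ← relIndex_bot_left]
              have h5 : (⊥ : Subgroup ↥N).relIndex (L ⊔ Mg) = (⊥ : Subgroup ↥N).relIndex L * L.relIndex (L ⊔ Mg) :=
                (relIndex_mul_relIndex _ _ _ bot_le le_sup_left).symm
              rw [h5, sup_comm, relIndex_sup_right]
              exact Nat.mul_dvd_mul_left _ (by
                rw [← inf_relIndex_right]
                rw [← relIndex_mul_relIndex ⊥ (L ⊓ Mg) Mg bot_le inf_le_right]
                exact Dvd.intro_left _ rfl)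
            rcases (hp.dvd_mul).1 (h.trans h4) with h5 | h5
            · exact hLp h5
            · exact hMgp h5
          · intro g' hg'
            rw [Finset.mem_insert] at hg'
            rcases hg' with rfl | hg'
            · refine le_trans ?_ (Subgroup.map_mono le_sup_right)
              rintro _ ⟨_, ⟨m, hm, rfl⟩, rfl⟩
              refine ⟨MulAut.conjNormal g' m, ⟨m, hm, rfl⟩, ?_⟩
              simp
            · exact (hLs g' hg').trans (Subgroup.map_mono le_sup_left)
      have := Fintype.ofFinite X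
      obtain ⟨L, -, hLp, hL⟩ := key Finset.univ
      have h5 : K ≤ L.map N.subtype := by
        rw [hK]; exact iSup_le fun g => hL g (Finset.mem_univ g)
      intro h
      apply hLp
      have h6 := h.trans (card_dvd_of_le h5)
      rwa [← Nat.card_congr (equivMapOfInjective L _ N.subtype_injective).toEquiv] at h6
    have hM1 : M.map N.subtype ≤ K := by
      rw [hK]
      refine le_trans ?_ (le_iSup _ (1 : X))
      rintro y ⟨m, hm, rfl⟩
      exact ⟨_, ⟨m, hm, rfl⟩, by simp⟩
    rcases hmin K hKn hKN with h | h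
    · rw [h, le_bot_iff, map_eq_bot_iff_of_injective _ N.subtype_injective] at hM1
      exact hM1
    · exact absurd (h ▸ hpN) hcop

theorem fact_le_of_not {m k : ℕ} (hm : m ≠ 0) (h : ¬ 2 ^ (k + 1) ∣ m) : m.factorization 2 ≤ k := by
  by_contra hcon
  exact h ((Nat.Prime.pow_dvd_iff_le_factorization Nat.prime_two hm).2 (by omega))

theorem not_of_fact_le {m k : ℕ} (hm : m ≠ 0) (h : m.factorization 2 ≤ k) : ¬ 2 ^ (k + 1) ∣ m := fun hcon => by
  have := (Nat.Prime.pow_dvd_iff_le_factorization Nat.prime_two hm).1 hcon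
  omega

theorem sieve_aux (P : Finset ℕ) (hP : P.Nonempty) (hprime : ∀ p ∈ P, p.Prime) :
    ∀ (n : ℕ) {X : Type u} [Group X] [Finite X] (x : ℕ → X) (c : ℕ → ℕ), Nat.card X = n →
      (∀ p ∈ P, ¬ p ^ 2 ∣ Nat.card X) → (∀ p ∈ P, orderOf (x p) = p) →
      (∀ p ∈ P, ¬ 2 ^ (c p + 1) ∣ Nat.card ↥(centralizer ({x p} : Set X))) → Concl P c X := by
  intro n
  induction n using Nat.strong_induction_on with
  | _ n ih =>
  intro X _ _ x c hn h2 hx hc
  -- a minimal normal subgroup
  obtain ⟨p0, hp0⟩ := hP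
  have hntX : Nontrivial X := by
    refine ⟨x p0, 1, fun h => ?_⟩
    have := hx p0 hp0
    rw [h, orderOf_one] at this
    exact (hprime p0 hp0).one_lt.ne this
  obtain ⟨N, ⟨hN, hN1⟩, hmin'⟩ := wellFounded_lt.has_min {M : Subgroup X | M.Normal ∧ M ≠ ⊥}
    ⟨⊤, inferInstance, top_ne_bot⟩
  have hmin : ∀ M : Subgroup X, M.Normal → M ≤ N → M = ⊥ ∨ M = N := by
    intro M hM hMN
    by_cases h : M = ⊥
    · exact Or.inl h
    · right
      by_contra hne
      exact hmin' M ⟨hM, h⟩ (lt_of_le_of_ne hMN hne)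
  have hcardX : Nat.card X = Nat.card ↥N * Nat.card (X ⧸ N) := by
    rw [mul_comm]; exact N.card_eq_card_quotient_mul_card_subgroup
  have hN1c : 1 < Nat.card ↥N := by
    rw [Finite.one_lt_card_iff_nontrivial]
    exact (nontrivial_iff_ne_bot N).2 hN1
  have hq0 : Nat.card (X ⧸ N) ≠ 0 := Nat.card_pos.ne'
  have hN0 : Nat.card ↥N ≠ 0 := Nat.card_pos.ne'
  have hfact : (Nat.card X).factorization 2 = (Nat.card ↥N).factorization 2 + (Nat.card (X ⧸ N)).factorization 2 := by
    rw [hcardX, Nat.factorization_mul hN0 hq0, Finsupp.add_apply]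
  by_cases hcase : ∀ p ∈ P, ¬ p ∣ Nat.card ↥N
  · -- pass to `X / N`
    set c' : ℕ → ℕ := fun p => c p - (Nat.card ↥(N ⊓ centralizer ({x p} : Set X))).factorization 2 with hc'
    have hcl : ∀ p ∈ P, (Nat.card ↥(N ⊓ centralizer ({x p} : Set X))).factorization 2 +
        (Nat.card ↥(centralizer ({(QuotientGroup.mk' N (x p))} : Set (X ⧸ N)))).factorization 2 ≤ c p := by
      intro p hp
      have h3 := card_cent (hprime p hp) (hx p hp) N (hcase p hp)
      have h4 := fact_le_of_not Nat.card_pos.ne' (hc p hp)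
      rw [h3, Nat.factorization_mul Nat.card_pos.ne' Nat.card_pos.ne', Finsupp.add_apply] at h4
      exact h4
    have hlt : Nat.card (X ⧸ N) < n := by
      rw [← hn, hcardX]
      exact (Nat.lt_mul_iff_one_lt_left (Nat.pos_of_ne_zero hq0)).2 hN1c
    obtain ⟨A, b, s, h5, h6, h7, h8, h9⟩ := ih (Nat.card (X ⧸ N)) hlt (fun p => QuotientGroup.mk' N (x p)) c' rfl
      (fun p hp h => h2 p hp (h.trans (hcardX ▸ Dvd.intro_left _ rfl)))
      (fun p hp => by
        have := Fact.mk (hprime p hp)
        refine orderOf_eq_prime ?_ ?_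
        · have h3 := pow_orderOf_eq_one (x p)
          rw [hx p hp] at h3
          rw [← map_pow, h3, map_one]
        · intro h
          rw [← MonoidHom.mem_ker, QuotientGroup.ker_mk'] at h
          refine hcase p hp ?_
          rw [← hx p hp, ← Nat.card_zpowers]
          exact card_dvd_of_le (zpowers_le.2 h))
      (fun p hp => not_of_fact_le Nat.card_pos.ne' (by have := hcl p hp; simp only [hc']; omega))
    refine ⟨A + (Nat.card ↥N).factorization 2, b, s, by rw [hfact, h5]; ring, ?_, ?_, ?_, ?_⟩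
    · intro p hp
      obtain ⟨i, hi, hA⟩ := h6 p hp
      obtain ⟨j, hj, hB⟩ := two_part (hprime p hp) (hx p hp) (N := N) (fun n hn => hN.conj_mem n hn _) (hcase p hp)
      have hj' := (Nat.Prime.pow_dvd_iff_le_factorization Nat.prime_two Nat.card_pos.ne').1 hj
      refine ⟨i + j, ?_, ?_⟩
      · have := hcl p hp
        simp only [hc'] at hi
        omega
      · rw [pow_add, pow_add]; exact hA.mul hB
    · obtain ⟨p, hp, hb⟩ := h7
      exact ⟨p, hp, hb.trans (by simp only [hc']; omega)⟩
    · rcases h8 with h8 | ⟨h8, S, i1, i2, i3, i4, i5, i6⟩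
      · exact Or.inl h8
      · exact Or.inr ⟨h8, S, i1, i2, i3, i4, i5, i6.trans (hcardX ▸ Dvd.intro_left _ rfl)⟩
    · intro p hp
      rcases h9 p hp with h | ⟨i, hi, h⟩
      · exact Or.inl h
      · exact Or.inr ⟨i, hi.trans (by simp only [hc']; omega), h⟩
  · push Not at hcase
    obtain ⟨p, hp, hpN⟩ := hcase
    have := Fact.mk (hprime p hp)
    have hsimple := isSimple_of_minimal (hprime p hp) (h2 p hp) N hmin hpN
    have h2N : ¬ p ^ 2 ∣ Nat.card ↥N := fun h => h2 p hp (h.trans (card_subgroup_dvd_card N))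
    obtain ⟨y, hy⟩ := exists_prime_orderOf_dvd_card' p hpN
    have hy' : orderOf (y : X) = p := by rw [← hy]; exact orderOf_injective N.subtype N.subtype_injective y
    -- elements of order `p` are in `N`
    have hin : ∀ z : X, orderOf z = p → z ∈ N := by
      intro z hz
      obtain ⟨g, hg⟩ := Cfsg.Agent.CpAutON.Gen.conj_into (h2 p hp) hz hy'
      have h4 : g * z * g⁻¹ ∈ N := (zpowers_le.2 y.2) hg
      have h5 := hN.conj_mem _ h4 g⁻¹
      have h6 : g⁻¹ * (g * z * g⁻¹) * g⁻¹⁻¹ = z := by group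
      rwa [h6] at h5
    have hxN : x p ∈ N := hin _ (hx p hp)
    have hnorm := normalizer_two (hprime p hp) (hx p hp) (hc p hp)
    by_cases hab : IsMulCommutative ↥N
    · -- `N` has order `p`
      have hz : (zpowers (x p)) = N := by
        have h3 : ((zpowers (x p)).subgroupOf N).Normal := by
          refine ⟨fun a ha g => ?_⟩
          have : g * a * g⁻¹ = a := by
            rw [hab.is_comm.comm g a]; group
          rwa [this]
        rcases hsimple.eq_bot_or_eq_top_of_normal _ h3 with h | h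
        · exfalso
          rw [subgroupOf_eq_bot, disjoint_iff, inf_eq_left.2 (zpowers_le.2 hxN), zpowers_eq_bot] at h
          have := hx p hp
          rw [h, orderOf_one] at this
          exact (hprime p hp).one_lt.ne this
        · rw [subgroupOf_eq_top] at h
          exact le_antisymm (zpowers_le.2 hxN) h
      have h4 : normalizer ((zpowers (x p) : Subgroup X) : Set X) = ⊤ := by
        rw [hz]; exact normalizer_eq_top N
      rw [h4, card_top] at hnorm
      refine ⟨0, (Nat.card X).factorization 2, 1, by simp, fun q _ => ⟨0, Nat.zero_le _, rfl⟩, ⟨p, hp, hnorm⟩, Or.inl rfl,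
        fun q _ => Or.inr ⟨0, Nat.zero_le _, by simp [Nat.ModEq]⟩⟩
    · -- `N` is nonabelian simple
      refine ⟨0, (Nat.card (X ⧸ N)).factorization 2, Nat.card ↥N, by rw [hfact]; ring,
        fun q _ => ⟨0, Nat.zero_le _, rfl⟩, ⟨p, hp, ?_⟩, Or.inr ⟨⟨p, hp, hpN⟩, ↥N, inferInstance, inferInstance,
          hsimple, hab, rfl, card_subgroup_dvd_card N⟩, ?_⟩
      · refine le_trans ?_ hnorm
        set M := normalizer ((zpowers (x p) : Subgroup X) : Set X)
        have hsurj : Function.Surjective ((QuotientGroup.mk' N).comp M.subtype) := by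
          intro q
          obtain ⟨g, rfl⟩ := QuotientGroup.mk'_surjective N q
          have h3 : orderOf (g * x p * g⁻¹) = p := by
            have := (MulAut.conj g).orderOf_eq (x p)
            rw [MulAut.conj_apply] at this
            rw [this]; exact hx p hp
          have h3N := hin _ h3
          obtain ⟨m, hm⟩ := Cfsg.Agent.CpAutON.Gen.conj_into h2N (x := ⟨_, h3N⟩) (y := ⟨_, hxN⟩)
            ((orderOf_injective N.subtype N.subtype_injective _).symm.trans h3)
            ((orderOf_injective N.subtype N.subtype_injective _).symm.trans (hx p hp))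
          have hmg : (m : X) * g ∈ M := by
            have h4 : (m : X) * g * x p * ((m : X) * g)⁻¹ ∈ zpowers (x p) := by
              obtain ⟨k, hk⟩ := hm
              refine ⟨k, ?_⟩
              have := congrArg Subtype.val hk
              simp only [coe_mul, coe_inv, coe_zpow] at this
              show x p ^ k = _
              rw [this]; group
            have h5 : (zpowers (x p)).map (MulAut.conj ((m : X) * g)).toMonoidHom = zpowers (x p) := by
              refine Subgroup.eq_of_le_of_card_ge ?_ ?_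
              · rw [MonoidHom.map_zpowers, zpowers_le]; exact h4
              · rw [← Nat.card_congr (equivMapOfInjective (zpowers (x p)) _
                  (MulAut.conj ((m : X) * g)).injective).toEquiv]
            rw [mem_normalizer_iff]
            intro z
            constructor
            · intro hz
              have : (m : X) * g * z * ((m : X) * g)⁻¹ ∈ (zpowers (x p)).map (MulAut.conj ((m : X) * g)).toMonoidHom :=
                ⟨z, hz, rfl⟩
              rwa [h5] at this
            · intro hz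
              rw [← h5] at hz
              obtain ⟨w, hw, hwz⟩ := hz
              have : w = z := by
                simp only [MulEquiv.coe_toMonoidHom, MulAut.conj_apply] at hwz
                exact mul_left_cancel (mul_right_cancel hwz)
              rwa [← this]
          refine ⟨⟨_, hmg⟩, ?_⟩
          rw [MonoidHom.comp_apply, subtype_apply, map_mul]
          have : QuotientGroup.mk' N (m : X) = 1 := by
            rw [← MonoidHom.mem_ker, QuotientGroup.ker_mk']; exact m.2
          rw [this, one_mul]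
        have h4 := card_dvd_of_surjective _ hsurj
        exact (Nat.factorization_le_iff_dvd Nat.card_pos.ne' Nat.card_pos.ne').2 h4 2
      · intro r hr
        by_cases hrN : r ∣ Nat.card ↥N
        · exact Or.inl hrN
        · right
          obtain ⟨j, hj, hB⟩ := two_part (hprime r hr) (hx r hr) (N := N) (fun n hn => hN.conj_mem n hn _) hrN
          refine ⟨j, ?_, hB⟩
          have h5 : 2 ^ j ∣ Nat.card ↥(centralizer ({x r} : Set X)) := hj.trans (card_dvd_of_le inf_le_right)
          have h6 := (Nat.Prime.pow_dvd_iff_le_factorization Nat.prime_two Nat.card_pos.ne').1 h5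
          have h7 := fact_le_of_not Nat.card_pos.ne' (hc r hr)
          omega

/-- **The 2-part sieve.** -/
theorem sieve {X : Type u} [Group X] [Finite X] (P : Finset ℕ) (hP : P.Nonempty) (hprime : ∀ p ∈ P, p.Prime)
    (x : ℕ → X) (c : ℕ → ℕ) (h2 : ∀ p ∈ P, ¬ p ^ 2 ∣ Nat.card X) (hx : ∀ p ∈ P, orderOf (x p) = p)
    (hc : ∀ p ∈ P, ¬ 2 ^ (c p + 1) ∣ Nat.card ↥(centralizer ({x p} : Set X))) : Concl P c X :=
  sieve_aux P hP hprime _ x c rfl h2 hx hc

end Cfsg.Agent.H510.TwoSieve
end

-- part: H510/TwoWitt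
section
/-!
# The Witt residue lemma for 2-transitive groups (helper510, HUB H1 part P11)

`witt`: `G` 2-transitive of degree `n` on `Ω`, `x ∈ G` of prime order `p`, `p² ∤ |G|`, `p ∤ n (n - 1)`, `4 ∤ |C(x)|`.  Then
`f = |Fix(x)|` satisfies `f ≡ n mod p`, `f (f - 1) ∣ |N(⟨x⟩)|` and `f = 2` or `f` is a power of an odd prime.
-/

set_option autoImplicit false

namespace Cfsg.Agent.H510.TwoWitt

open MulAction Subgroup

universe u v

variable {G : Type u} {Ω : Type v} [Group G] [MulAction G Ω]

/-- `N(P)` acts on `Fix(P)` -/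
def fixS (P : Subgroup G) : SubMulAction ↥(normalizer (P : Set G)) Ω where
  carrier := fixedPoints P Ω
  smul_mem' := by
    intro g a ha
    rw [mem_fixedPoints] at ha ⊢
    rintro ⟨h, hh⟩
    have h1 : (g : G)⁻¹ * h * g ∈ P := by
      have := (mem_normalizer_iff'.1 g.2 ((g : G)⁻¹ * h)).2
      apply this
      simpa [mul_assoc] using hh
    have h2 := ha ⟨_, h1⟩
    have h3 : ((g : G)⁻¹ * h * g) • a = a := h2
    show h • ((g : G) • a) = (g : G) • a
    have h4 : h • ((g : G) • a) = (g : G) • (((g : G)⁻¹ * h * g) • a) := by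
      rw [smul_smul, smul_smul]
      congr 1
      group
    rw [h4, h3]

theorem mem_fixS {P : Subgroup G} {a : Ω} : a ∈ fixS P ↔ a ∈ fixedPoints P Ω := Iff.rfl

/-- `N(P)` is 2-transitive on `Fix(P)` if `|P| = p`, `p² ∤ |G|`. -/
theorem two_fixS [Finite G] (h2 : IsMultiplyPretransitive G Ω 2) {p : ℕ} (hp : p.Prime) (hsq : ¬ p ^ 2 ∣ Nat.card G)
    {x : G} (hx : orderOf x = p) :
    IsMultiplyPretransitive ↥(normalizer (zpowers x : Set G)) (fixS (Ω := Ω) (zpowers x)) 2 := by
  have := Fact.mk hp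
  rw [is_two_pretransitive_iff] at h2 ⊢
  rintro ⟨a, ha⟩ ⟨b, hb⟩ ⟨c, hc⟩ ⟨d, hd⟩ hab hcd
  have hab' : a ≠ b := fun h => hab (Subtype.ext h)
  have hcd' : c ≠ d := fun h => hcd (Subtype.ext h)
  obtain ⟨g, hg1, hg2⟩ := h2 hab' hcd'
  have fx : ∀ {e : Ω}, e ∈ fixS (zpowers x) → x • e = e := fun {e} he => he ⟨x, mem_zpowers x⟩
  -- both `g x g⁻¹` and `x` fix `c` and `d`
  let S : Subgroup G := stabilizer G c ⊓ stabilizer G d
  have hxS : x ∈ S := ⟨fx hc, fx hd⟩
  have hgxS : g * x * g⁻¹ ∈ S := by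
    refine ⟨?_, ?_⟩
    · show (g * x * g⁻¹) • c = c
      rw [mul_smul, mul_smul, ← hg1, inv_smul_smul, fx ha]
    · show (g * x * g⁻¹) • d = d
      rw [mul_smul, mul_smul, ← hg2, inv_smul_smul, fx hb]
  have hxo : orderOf (⟨x, hxS⟩ : S) = p := by rw [← hx, ← Subgroup.orderOf_coe]
  have hgo : orderOf (⟨g * x * g⁻¹, hgxS⟩ : S) = p := by
    rw [← Subgroup.orderOf_coe]
    show orderOf (g * x * g⁻¹) = p
    have := (MulAut.conj g).orderOf_eq x
    rw [MulAut.conj_apply] at this
    rw [this, hx]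
  obtain ⟨h, hh⟩ := Cfsg.Agent.CpAutON.Gen.conj_into
    (fun hd => hsq (hd.trans (card_subgroup_dvd_card S))) hgo hxo
  have hmem : (h : G) * g * x * ((h : G) * g)⁻¹ ∈ zpowers x := by
    obtain ⟨k, hk⟩ := hh
    refine ⟨k, ?_⟩
    have := congrArg Subtype.val hk
    simp only [coe_mul, coe_inv, coe_zpow] at this
    show x ^ k = _
    rw [this]; group
  have hN : (h : G) * g ∈ normalizer (zpowers x : Set G) := by
    have h5 : (zpowers x).map (MulAut.conj ((h : G) * g)).toMonoidHom = zpowers x := by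
      refine Subgroup.eq_of_le_of_card_ge ?_ ?_
      · rw [MonoidHom.map_zpowers, zpowers_le]; exact hmem
      · rw [← Nat.card_congr (equivMapOfInjective (zpowers x) _
          (MulAut.conj ((h : G) * g)).injective).toEquiv]
    rw [mem_normalizer_iff]
    intro z
    constructor
    · intro hz
      have : (h : G) * g * z * ((h : G) * g)⁻¹ ∈ (zpowers x).map (MulAut.conj ((h : G) * g)).toMonoidHom :=
        ⟨z, hz, rfl⟩
      rwa [h5] at this
    · intro hz
      rw [← h5] at hz
      obtain ⟨w, hw, hwz⟩ := hz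
      have : w = z := by
        simp only [MulEquiv.coe_toMonoidHom, MulAut.conj_apply] at hwz
        exact mul_left_cancel (mul_right_cancel hwz)
      rwa [← this]
  refine ⟨⟨_, hN⟩, Subtype.ext ?_, Subtype.ext ?_⟩
  · show ((h : G) * g) • a = c
    rw [mul_smul, hg1]
    exact h.2.1
  · show ((h : G) * g) • b = d
    rw [mul_smul, hg2]
    exact h.2.2

/-- a solvable normalizer -/
theorem solvable_normalizer [Finite G] {x : G} {p : ℕ} (hp : p.Prime) (hx : orderOf x = p)
    (h4 : ¬ 4 ∣ Nat.card ↥(centralizer ({x} : Set G))) :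
    ∃ C : Subgroup ↥(normalizer (zpowers x : Set G)), C.Normal ∧ Nat.card C ∣ Nat.card ↥(centralizer ({x} : Set G)) ∧
      (∀ a b : ↥(normalizer (zpowers x : Set G)), a * b * a⁻¹ * b⁻¹ ∈ C) ∧ Group.IsSolvable C := by
  set N := normalizer (zpowers x : Set G) with hN
  let C : Subgroup ↥N := (centralizer ({x} : Set G)).subgroupOf N
  have hcd : Nat.card C ∣ Nat.card ↥(centralizer ({x} : Set G)) := by
    have h1 : C.map N.subtype ≤ centralizer ({x} : Set G) := by
      rintro _ ⟨y, hy, rfl⟩
      exact hy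
    have h2 := card_dvd_of_le h1
    rwa [← Nat.card_congr (equivMapOfInjective C N.subtype N.subtype_injective).toEquiv] at h2
  have hconj : ∀ a : ↥N, ∃ k : ℤ, (a : G) * x * (a : G)⁻¹ = x ^ k := by
    intro a
    have := (mem_normalizer_iff.1 a.2 x).1 (mem_zpowers x)
    obtain ⟨k, hk⟩ := this
    exact ⟨k, hk.symm⟩
  have hmem : ∀ a : ↥N, a ∈ C ↔ (a : G) * x * (a : G)⁻¹ = x := by
    intro a
    rw [mem_subgroupOf, mem_centralizer_singleton_iff, mul_inv_eq_iff_eq_mul]
  have hcomm : ∀ a b : ↥N, a * b * a⁻¹ * b⁻¹ ∈ C := by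
    intro a b
    rw [hmem]
    obtain ⟨k, hk⟩ := hconj a⁻¹
    obtain ⟨l, hl⟩ := hconj b⁻¹
    obtain ⟨k', hk'⟩ := hconj a
    obtain ⟨l', hl'⟩ := hconj b
    have pw : ∀ (g : G) (m : ℤ), g * x ^ m * g⁻¹ = (g * x * g⁻¹) ^ m := fun g m => by rw [conj_zpow]
    simp only [coe_inv, inv_inv] at hk hl
    have e1 : ((a : G) * b) * x * ((a : G) * b)⁻¹ = x ^ (k' * l') := by
      calc ((a : G) * b) * x * ((a : G) * b)⁻¹ = a * (b * x * (b : G)⁻¹) * (a : G)⁻¹ := by group
        _ = x ^ (k' * l') := by rw [hl', pw, hk', zpow_mul]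
    have e2 : ((b : G) * a) * x * ((b : G) * a)⁻¹ = x ^ (k' * l') := by
      calc ((b : G) * a) * x * ((b : G) * a)⁻¹ = b * (a * x * (a : G)⁻¹) * (b : G)⁻¹ := by group
        _ = x ^ (k' * l') := by rw [hk', pw, hl', mul_comm k' l', zpow_mul]
    have e3 : ((b : G) * a)⁻¹ * x ^ (k' * l') * ((b : G) * a) = x := by rw [← e2]; group
    show ((a : G) * b * (a : G)⁻¹ * (b : G)⁻¹) * x * ((a : G) * b * (a : G)⁻¹ * (b : G)⁻¹)⁻¹ = x
    have e4 : ((b : G) * a)⁻¹ * x * ((b : G) * a) = (a : G)⁻¹ * ((b : G)⁻¹ * x * b) * a := by group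
    have e5 : ((a : G) * b)⁻¹ * x * ((a : G) * b) = (b : G)⁻¹ * ((a : G)⁻¹ * x * a) * b := by group
    have pw' : ∀ (g : G) (m : ℤ), g⁻¹ * x ^ m * g = (g⁻¹ * x * g) ^ m := fun g m => by
      have := pw g⁻¹ m
      rwa [inv_inv] at this
    have e6 : ((b : G) * a)⁻¹ * x * ((b : G) * a) = x ^ (k * l) := by
      rw [e4, hl, pw', hk, zpow_mul]
    calc ((a : G) * b * (a : G)⁻¹ * (b : G)⁻¹) * x * ((a : G) * b * (a : G)⁻¹ * (b : G)⁻¹)⁻¹
        = ((a : G) * b) * (((b : G) * a)⁻¹ * x * ((b : G) * a)) * ((a : G) * b)⁻¹ := by group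
      _ = (((a : G) * b) * x * ((a : G) * b)⁻¹) ^ (k * l) := by rw [e6, pw]
      _ = (((b : G) * a) * x * ((b : G) * a)⁻¹) ^ (k * l) := by rw [e1, e2]
      _ = ((b : G) * a) * (x ^ (k * l)) * ((b : G) * a)⁻¹ := by rw [pw]
      _ = x := by rw [← e6]; group
  refine ⟨C, ?_, hcd, hcomm, Cfsg.Agent.SylowL5.TypeAGen.isSolvable_of_not_four_dvd fun h => h4 (h.trans hcd)⟩
  refine ⟨fun n hn g => ?_⟩
  have h1 := C.mul_mem (hcomm g n) hn
  simpa only [mul_assoc, _root_.inv_mul_cancel, _root_.mul_one] using h1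

/-- the regular case: a group `K` 2-transitive and faithful with a central transitive subgroup has degree at most 2 -/
theorem card_le_two {K F : Type*} [Group K] [Finite F] [MulAction K F] [FaithfulSMul K F]
    (h2 : IsMultiplyPretransitive K F 2) (M : Subgroup K) (hM : IsPretransitive M F)
    (hc : ∀ k : K, ∀ m ∈ M, k * m = m * k) : Nat.card F ≤ 2 := by
  rw [is_two_pretransitive_iff] at h2
  by_contra hcon
  push Not at hcon
  have := Fintype.ofFinite F
  rw [Nat.card_eq_fintype_card, Fintype.two_lt_card_iff] at hcon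
  obtain ⟨a, b, c, hab, hac, hbc⟩ := hcon
  obtain ⟨k, hk1, hk2⟩ := h2 hab hac
  have : k = 1 := by
    refine FaithfulSMul.eq_of_smul_eq_smul (α := F) fun d => ?_
    obtain ⟨m, rfl⟩ := _root_.MulAction.exists_smul_eq M a d
    rw [one_smul]
    show k • ((m : K) • a) = (m : K) • a
    rw [smul_smul, hc k m m.2, mul_smul, hk1]
  rw [this, one_smul] at hk2
  exact hbc hk2

/-- **The Witt residue lemma.** -/
theorem witt [Finite G] [Finite Ω] (h2 : IsMultiplyPretransitive G Ω 2) {p : ℕ} (hp : p.Prime)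
    (hsq : ¬ p ^ 2 ∣ Nat.card G) {x : G} (hx : orderOf x = p) (h4 : ¬ 4 ∣ Nat.card ↥(centralizer ({x} : Set G)))
    (h0 : ¬ p ∣ Nat.card Ω) (h1 : ¬ p ∣ Nat.card Ω - 1) (hn : 0 < Nat.card Ω) :
    ∃ f, f ≡ Nat.card Ω [MOD p] ∧ 2 ≤ f ∧ f * (f - 1) ∣ Nat.card ↥(normalizer (zpowers x : Set G)) ∧
      (f = 2 ∨ ∃ r a, r.Prime ∧ r ≠ 2 ∧ 0 < a ∧ f = r ^ a) := by
  classical
  have := Fact.mk hp
  have hP : IsPGroup p ↥(zpowers x) := IsPGroup.of_card (n := 1) (by rw [Nat.card_zpowers, hx, pow_one])
  set P := zpowers x with hPd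
  set N := normalizer (P : Set G) with hN
  have hmod := hP.card_modEq_card_fixedPoints Ω
  have hF : Nat.card (fixS (Ω := Ω) P) = Nat.card (fixedPoints P Ω) := rfl
  set f := Nat.card (fixS (Ω := Ω) P) with hf
  have hfm : f ≡ Nat.card Ω [MOD p] := by rw [hF]; exact hmod.symm
  have hf2 : 2 ≤ f := by
    by_contra hcon
    have h3 : f = 0 ∨ f = 1 := by omega
    rcases h3 with h3 | h3
    · rw [h3] at hfm
      exact h0 ((Nat.modEq_zero_iff_dvd).1 hfm.symm)
    · rw [h3] at hfm
      exact h1 ((Nat.modEq_iff_dvd' hn).1 hfm)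
  have htwo : IsMultiplyPretransitive ↥N (fixS (Ω := Ω) P) 2 := two_fixS h2 hp hsq hx
  have hFfin : Finite (fixS (Ω := Ω) P) := Subtype.finite
  have hnt : Nontrivial (fixS (Ω := Ω) P) := Finite.one_lt_card_iff_nontrivial.1 hf2
  refine ⟨f, hfm, hf2, Cfsg.Agent.H555.AltTwo.card_mul_dvd htwo hf2, ?_⟩
  obtain ⟨C, hC, hCd, hcomm, hsolC⟩ := solvable_normalizer (x := x) hp hx h4
  have hsolN : Group.IsSolvable ↥N := by
    have h5 : Group.IsSolvable (↥N ⧸ C) := by
      refine Group.isSolvable_of_comm fun a b => ?_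
      obtain ⟨a, rfl⟩ := QuotientGroup.mk_surjective a
      obtain ⟨b, rfl⟩ := QuotientGroup.mk_surjective b
      rw [← QuotientGroup.mk_mul, ← QuotientGroup.mk_mul, QuotientGroup.eq]
      have := hcomm b⁻¹ a⁻¹
      simpa only [mul_assoc, _root_.mul_inv_rev, _root_.inv_inv] using this
    exact Group.isSolvable_of_ker_le_range C.subtype (QuotientGroup.mk' C) (by simp)
  -- the image in the symmetric group
  let φ : ↥N →* Equiv.Perm (fixS (Ω := Ω) P) := toPermHom ↥N (fixS (Ω := Ω) P)
  have hφ : ∀ (g : ↥N) (a : fixS (Ω := Ω) P), φ g a = g • a := fun _ _ => rfl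
  let K : Subgroup (Equiv.Perm (fixS (Ω := Ω) P)) := φ.range
  have hKs : Group.IsSolvable ↥K := Group.isSolvable_of_surjective (f := φ.rangeRestrict) φ.rangeRestrict_surjective
  have hK2 : IsMultiplyPretransitive ↥K (fixS (Ω := Ω) P) 2 := by
    rw [is_two_pretransitive_iff] at htwo ⊢
    intro a b c d hab hcd
    obtain ⟨g, hg1, hg2⟩ := htwo hab hcd
    exact ⟨⟨φ g, g, rfl⟩, hg1, hg2⟩
  have hprim : IsPreprimitive ↥K (fixS (Ω := Ω) P) := isPreprimitive_of_is_two_pretransitive hK2
  have hKnt : Nontrivial ↥K := by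
    obtain ⟨a, b, hab⟩ := exists_pair_ne (fixS (Ω := Ω) P)
    rw [is_two_pretransitive_iff] at hK2
    obtain ⟨k, hk, -⟩ := hK2 hab hab.symm
    refine ⟨k, 1, fun h => hab ?_⟩
    rw [h, one_smul] at hk
    exact hk
  -- a minimal normal subgroup
  obtain ⟨M, ⟨hM, hM1⟩, hmin'⟩ := wellFounded_lt.has_min {M : Subgroup ↥K | M.Normal ∧ M ≠ ⊥}
    ⟨⊤, inferInstance, top_ne_bot⟩
  have hmin : ∀ L : Subgroup ↥K, L.Normal → L ≤ M → L = ⊥ ∨ L = M := by
    intro L hL hLM
    by_cases h : L = ⊥
    · exact Or.inl h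
    · right
      by_contra hne
      exact hmin' L ⟨hL, h⟩ (lt_of_le_of_ne hLM hne)
  obtain ⟨htr, -, r, d, hr, hd, hfr, hMr⟩ := Cfsg.Agent.S0547.result hprim M hM1 hmin
  by_cases hr2 : r = 2
  swap
  · exact Or.inr ⟨r, d, hr, hr2, hd, hfr⟩
  left
  subst hr2
  -- the image of `C`
  let D : Subgroup ↥K := C.map φ.rangeRestrict
  have hD : D.Normal := hC.map _ φ.rangeRestrict_surjective
  have hDc : ∀ a b : ↥K, a * b * a⁻¹ * b⁻¹ ∈ D := by
    intro a b
    obtain ⟨a, rfl⟩ := φ.rangeRestrict_surjective a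
    obtain ⟨b, rfl⟩ := φ.rangeRestrict_surjective b
    exact ⟨a * b * a⁻¹ * b⁻¹, hcomm a b, by simp only [_root_.map_mul, _root_.map_inv]⟩
  have hDcard : Nat.card D ∣ Nat.card C := card_map_dvd _ _
  rcases hmin (M ⊓ D) inferInstance inf_le_left with h | h
  · -- `M` is central
    have hcen : ∀ k : ↥K, ∀ m ∈ M, k * m = m * k := by
      intro k m hm
      have h5 : k * m * k⁻¹ * m⁻¹ ∈ M ⊓ D := ⟨M.mul_mem (hM.conj_mem m hm k) (M.inv_mem hm), hDc k m⟩
      rw [h, mem_bot] at h5
      calc k * m = (k * m * k⁻¹ * m⁻¹) * (m * k) := by group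
        _ = m * k := by rw [h5, one_mul]
    have := card_le_two hK2 M htr hcen
    omega
  · -- `4 ∣ |M| ∣ |C|`
    by_contra hne
    have h5 : d ≠ 1 := by
      rintro rfl
      exact hne (hfr.trans (pow_one 2))
    have h6 : 4 ∣ Nat.card M := by
      rw [hMr]
      exact pow_dvd_pow 2 (show 2 ≤ d by omega)
    have h7 : M ≤ D := by rw [← h]; exact inf_le_right
    exact h4 (h6.trans ((card_dvd_of_le h7).trans (hDcard.trans hCd)))

end Cfsg.Agent.H510.TwoWitt
end

-- part: H510/TwoCore
section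
/-!
# The arithmetical sieve for 2-transitive groups with a given socle (helper510, HUB H1 part P11)

`A : AS G Ω T`, `|T| = N`, `|Out T| ≤ e ≤ 2`.  `R` = primes `p` with `p ∥ N` and no element of order `2 p` in `T`.

* `deg_dvd` : `n (n - 1) ∣ e N`;  `prime_le` : `p ≤ n` for `p ∣ N`;
* `res` : for `p ∈ R`: `n ≡ 0, 1, 2` or an odd prime power dividing `N` modulo `p`;
* `tool` : the 2-part sieve for the point stabilizer;
* `chk` : all this as a computable test; `mem_surv` : `n` is in the given list of survivors.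
-/

set_option autoImplicit false

namespace Cfsg.Agent.H510.TwoCore

open MulAction Subgroup Cfsg.Agent.H384.TwoTrans Cfsg Cfsg.Agent.OrdDiv Cfsg.Agent.H510.TwoSieve

universe u v

section Gen

variable {G : Type u} {Ω : Type v} [Group G] [MulAction G Ω] {T : Subgroup G}

/-- `[G : T]` is at most the order of the outer automorphism group -/
theorem index_le (A : AS G Ω T) : T.index ≤ (MulAut.conj : ↥T →* MulAut ↥T).range.index := by
  have := A.finG
  have := A.normal
  have h1 : (MulAut.conj : ↥T →* MulAut ↥T).range = T.map (MulAut.conjNormal : G →* MulAut ↥T) := by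
    ext f
    constructor
    · rintro ⟨t, rfl⟩
      exact ⟨t, t.2, by ext; simp only [_root_.MulAut.conjNormal_apply, _root_.MulAut.conj_apply, _root_.Subgroup.coe_mul, _root_.InvMemClass.coe_inv]⟩
    · rintro ⟨t, ht, rfl⟩
      exact ⟨⟨t, ht⟩, by ext; simp only [_root_.MulAut.conj_apply, _root_.Subgroup.coe_mul, _root_.InvMemClass.coe_inv, _root_.MulAut.conjNormal_apply]⟩
  have h2 : (MulAut.conjNormal : G →* MulAut ↥T).ker = ⊥ := by
    rw [eq_bot_iff, ← A.cent]
    intro g hg
    rw [mem_centralizer_iff]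
    intro t ht
    have h3 : MulAut.conjNormal g ⟨t, ht⟩ = (⟨t, ht⟩ : ↥T) := by
      rw [MonoidHom.mem_ker.1 hg]; rfl
    have h4 : g * t * g⁻¹ = t := congrArg Subtype.val h3
    exact (mul_inv_eq_iff_eq_mul.1 h4).symm
  rw [h1, index_map, h2, sup_bot_eq]
  exact Nat.le_mul_of_pos_right _ (Nat.pos_of_ne_zero FiniteIndex.index_ne_zero)

theorem index_dvd (A : AS G Ω T) {e : ℕ} (he : e ≤ 2) (ho : (MulAut.conj : ↥T →* MulAut ↥T).range.index ≤ e) :
    T.index ∣ e := by
  have := A.finG
  have h1 := (index_le A).trans ho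
  have h2 : T.index ≠ 0 := FiniteIndex.index_ne_zero
  interval_cases e
  · omega
  · have : T.index = 1 := by omega
    rw [this]
  · have : T.index = 1 ∨ T.index = 2 := by omega
    rcases this with h | h <;> rw [h]
    exact one_dvd _

theorem card_dvd (A : AS G Ω T) {e N : ℕ} (he : e ≤ 2) (ho : (MulAut.conj : ↥T →* MulAut ↥T).range.index ≤ e)
    (hN : Nat.card T = N) : Nat.card G ∣ e * N := by
  rw [← T.index_mul_card, hN]
  exact Nat.mul_dvd_mul_right (index_dvd A he ho) N

theorem deg_dvd (A : AS G Ω T) {e N : ℕ} (he : e ≤ 2) (ho : (MulAut.conj : ↥T →* MulAut ↥T).range.index ≤ e)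
    (hN : Nat.card T = N) : Nat.card Ω * (Nat.card Ω - 1) ∣ e * N := by
  have := A.finG
  have := A.finΩ
  exact (Cfsg.Agent.H555.AltTwo.card_mul_dvd A.two (by have := A.five_le; omega)).trans (card_dvd A he ho hN)

theorem prime_le (A : AS G Ω T) {p : ℕ} (hp : p.Prime) (hd : p ∣ Nat.card T) : p ≤ Nat.card Ω := by
  have := A.finΩ
  have := A.faithfulT
  have h1 : Nat.card T ∣ Nat.card (Equiv.Perm Ω) :=
    Subgroup.card_dvd_of_injective (MulAction.toPermHom T Ω) MulAction.toPerm_injective
  rw [Nat.card_perm] at h1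
  exact (hp.dvd_factorial).1 (hd.trans h1)

/-- no involution centralizer of `X` has order divisible by `p` -/
def NoInv (X : Type*) [Group X] (p : ℕ) : Prop :=
  ∀ t : X, orderOf t = 2 → ¬ p ∣ Nat.card ↥(centralizer ({t} : Set X))

theorem NoInv.cent {X : Type*} [Group X] [Finite X] {p : ℕ} (h : NoInv X p) {x : X} (hx : orderOf x = p) :
    ¬ 2 ∣ Nat.card ↥(centralizer ({x} : Set X)) := by
  intro h2
  obtain ⟨t, ht⟩ := exists_prime_orderOf_dvd_card' 2 h2
  have ht' : orderOf (t : X) = 2 := by rw [← ht]; exact Subgroup.orderOf_coe t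
  have hc := mem_centralizer_singleton_iff.1 t.2
  have hx' : x ∈ centralizer ({(t : X)} : Set X) := by
    rw [mem_centralizer_singleton_iff]; exact hc.symm
  refine h t ht' ?_
  have h3 := _root_.orderOf_dvd_natCard (⟨x, hx'⟩ : ↥(centralizer ({(t : X)} : Set X)))
  rwa [← Subgroup.orderOf_coe, hx] at h3

/-- subgroups -/
theorem NoInv.cent_sub {X : Type*} [Group X] [Finite X] {p : ℕ} (h : NoInv X p) (H : Subgroup X) {x : ↥H}
    (hx : orderOf x = p) : ¬ 2 ∣ Nat.card ↥(centralizer ({x} : Set ↥H)) := by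
  have hx' : orderOf (x : X) = p := by rw [← hx]; exact Subgroup.orderOf_coe x
  intro h2
  apply h.cent hx'
  have h3 : (centralizer ({x} : Set ↥H)).map H.subtype ≤ centralizer ({(x : X)} : Set X) := by
    rintro _ ⟨y, hy, rfl⟩
    have := mem_centralizer_singleton_iff.1 hy
    rw [mem_centralizer_singleton_iff]
    exact congrArg Subtype.val this
  have h4 := card_dvd_of_le h3
  rw [← Nat.card_congr (equivMapOfInjective _ H.subtype H.subtype_injective).toEquiv] at h4
  exact h2.trans h4

theorem cent_four (A : AS G Ω T) (hi : T.index ≤ 2) {p : ℕ} (h : NoInv ↥T p) {x : ↥T} (hx : orderOf x = p) :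
    ¬ 4 ∣ Nat.card ↥(centralizer ({(x : G)} : Set G)) := by
  have := A.finG
  have := A.normal
  set C := centralizer ({(x : G)} : Set G) with hC
  have h1 : Nat.card ↥(T.subgroupOf C) * (T.subgroupOf C).index = Nat.card C := card_mul_index _
  have h2 : (T.subgroupOf C).index ∣ T.index := relIndex_dvd_index_of_normal T C
  have h3 : Nat.card ↥(T.subgroupOf C) ∣ Nat.card ↥(centralizer ({x} : Set ↥T)) := by
    have h4 : (T.subgroupOf C).map C.subtype ≤ (centralizer ({x} : Set ↥T)).map T.subtype := by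
      rintro _ ⟨y, hy, rfl⟩
      refine ⟨⟨y, hy⟩, ?_, rfl⟩
      have := mem_centralizer_singleton_iff.1 y.2
      show _ ∈ centralizer ({x} : Set ↥T)
      rw [mem_centralizer_singleton_iff]
      exact Subtype.ext this
    have h5 := card_dvd_of_le h4
    rwa [← Nat.card_congr (equivMapOfInjective _ C.subtype C.subtype_injective).toEquiv,
      ← Nat.card_congr (equivMapOfInjective _ T.subtype T.subtype_injective).toEquiv] at h5
  have h6 := h.cent hx
  have h7 : ¬ 2 ∣ Nat.card ↥(T.subgroupOf C) := fun h => h6 (h.trans h3)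
  have h8 : (T.subgroupOf C).index ≤ 2 := (Nat.le_of_dvd (Nat.pos_of_ne_zero FiniteIndex.index_ne_zero) h2).trans hi
  rw [← h1]
  intro h4
  have h9 : Nat.Coprime 4 (Nat.card ↥(T.subgroupOf C)) := by
    rw [show 4 = 2 ^ 2 from rfl]
    exact Nat.Coprime.pow_left 2 ((Nat.Prime.coprime_iff_not_dvd Nat.prime_two).2 h7)
  have h10 := h9.dvd_of_dvd_mul_left h4
  have h11 : (T.subgroupOf C).index ≠ 0 := FiniteIndex.index_ne_zero
  exact absurd (Nat.le_of_dvd (Nat.pos_of_ne_zero h11) h10) (by omega)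

/-- the Witt residue lemma -/
theorem res (A : AS G Ω T) {e N : ℕ} (he : e ≤ 2) (ho : (MulAut.conj : ↥T →* MulAut ↥T).range.index ≤ e)
    (hN : Nat.card T = N) {p : ℕ} (hp : p.Prime) (hp2 : p ≠ 2) (hpN : p ∣ N) (hsq : ¬ p ^ 2 ∣ N) (h : NoInv ↥T p) :
    p ∣ Nat.card Ω ∨ p ∣ Nat.card Ω - 1 ∨ ∃ f, f ≡ Nat.card Ω [MOD p] ∧ 2 ≤ f ∧ f * (f - 1) ∣ e * N ∧
      (f = 2 ∨ ∃ r a, r.Prime ∧ r ≠ 2 ∧ 0 < a ∧ f = r ^ a) := by
  have := A.finG
  have := A.finΩ
  have := Fact.mk hp
  by_cases h0 : p ∣ Nat.card Ω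
  · exact Or.inl h0
  by_cases h1 : p ∣ Nat.card Ω - 1
  · exact Or.inr (Or.inl h1)
  right; right
  have := A.finT
  obtain ⟨x, hx⟩ := exists_prime_orderOf_dvd_card' (G := ↥T) p (by rw [hN]; exact hpN)
  have hx' : orderOf (x : G) = p := by rw [← hx]; exact Subgroup.orderOf_coe x
  have hG := card_dvd A he ho hN
  have hsq' : ¬ p ^ 2 ∣ Nat.card G := by
    intro hd
    apply hsq
    have h3 : p ^ 2 ∣ e * N := hd.trans hG
    have he0 : e ≠ 0 := by
      rintro rfl
      have := (index_le A).trans ho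
      have h5 : T.index ≠ 0 := FiniteIndex.index_ne_zero
      omega
    have h4 : Nat.Coprime (p ^ 2) e := by
      refine Nat.Coprime.pow_left 2 ?_
      rw [Nat.Prime.coprime_iff_not_dvd hp]
      intro h5
      have h6 := Nat.le_of_dvd (Nat.pos_of_ne_zero he0) h5
      have h7 := hp.two_le
      omega
    exact h4.dvd_of_dvd_mul_left h3
  obtain ⟨f, h3, h4, h5, h6⟩ := Cfsg.Agent.H510.TwoWitt.witt A.two hp hsq' hx'
    (cent_four A ((index_le A).trans (ho.trans he)) h hx) h0 h1 (by have := A.five_le; omega)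
  exact ⟨f, h3, h4, h5.trans ((card_subgroup_dvd_card _).trans hG), h6⟩

/-- the 2-part sieve for a subgroup of index `n` -/
theorem tool {X : Type u} [Group X] [Finite X] {N n : ℕ} (hN : Nat.card X = N) (H : Subgroup X)
    (hH : n * Nat.card H = N) (P : Finset ℕ) (hPn : P.Nonempty)
    (hP : ∀ p ∈ P, p.Prime ∧ p ∣ N ∧ ¬ p ^ 2 ∣ N ∧ ¬ p ∣ n ∧ NoInv X p) : Concl P (fun _ => 0) ↥H := by
  classical
  have hd : ∀ p ∈ P, p ∣ Nat.card H := by
    intro p hp
    obtain ⟨h1, h2, -, h3, -⟩ := hP p hp
    rw [← hH] at h2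
    exact ((h1.dvd_mul).1 h2).resolve_left h3
  have hex : ∀ p, ∃ x : ↥H, p ∈ P → orderOf x = p := by
    intro p
    by_cases hp : p ∈ P
    · have := Fact.mk (hP p hp).1
      obtain ⟨x, hx⟩ := exists_prime_orderOf_dvd_card' (G := ↥H) p (hd p hp)
      exact ⟨x, fun _ => hx⟩
    · exact ⟨1, fun h => absurd h hp⟩
  choose x hx using hex
  refine sieve P hPn (fun p hp => (hP p hp).1) x (fun _ => 0) (fun p hp h => ?_) (fun p hp => hx p hp)
    (fun p hp => ?_)
  · refine (hP p hp).2.2.1 (h.trans ?_)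
    rw [← hH]; exact dvd_mul_left _ _
  · have := (hP p hp).2.2.2.2.cent_sub H (hx p hp)
    simpa only [_root_.zero_add, _root_.pow_one, _root_.Nat.two_dvd_ne_zero] using this

end Gen

/-! ### The computable test -/

/-- 2-adic valuation with fuel -/
def v2 : ℕ → ℕ → ℕ
  | 0, _ => 0
  | k + 1, m => if Nat.beq (m % 2) 0 then v2 k (m / 2) + 1 else 0

theorem v2_eq : ∀ (k m : ℕ), 0 < m → m < 2 ^ k → v2 k m = m.factorization 2 := by
  intro k
  induction k with
  | zero => intro m h1 h2; simp at h2; omega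
  | succ k ih =>
    intro m h1 h2
    unfold v2
    by_cases h : m % 2 = 0
    · have hm : m = 2 * (m / 2) := by omega
      rw [if_pos (by simp [h]), ih (m / 2) (by omega) (by rw [pow_succ] at h2; omega)]
      conv_rhs => rw [hm]
      rw [Nat.factorization_mul (by norm_num) (by omega), Finsupp.add_apply, Nat.Prime.factorization_self Nat.prime_two]
      ring
    · rw [if_neg (by simpa using h), Nat.factorization_eq_zero_of_not_dvd (by omega)]

/-- residues -/
def resB (l : List (ℕ × ℕ)) (p n : ℕ) : Bool :=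
  Nat.ble (n % p) 2 || l.any fun x => !(Nat.beq x.1 2) && (List.range x.2).any fun a => Nat.beq (x.1 ^ (a + 1) % p) (n % p)

/-- 2-part sieve; `P` = primes, `S` = orders of the simple groups, `h = N / n` -/
def toolB (P S : List ℕ) (h : ℕ) : Bool :=
  let v := v2 200 h
  (List.range (v + 1)).any fun a => P.all (fun p => Nat.beq (2 ^ a % p) (1 % p)) &&
    (P.any (fun p => Nat.ble v (a + v2 200 (p - 1))) ||
      S.any fun s => Nat.beq (h % s) 0 && (P.any (fun p => Nat.beq (s % p) 0) &&
        (P.all (fun p => Nat.beq (s % p) 0 || Nat.beq (2 ^ (v2 200 s) % p) (1 % p)) &&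
          (Nat.ble (a + v2 200 s) v && P.any (fun p => Nat.ble v (a + v2 200 s + v2 200 (p - 1)))))))

/-- the test -/
def chk (l : List (ℕ × ℕ)) (N M : ℕ) (R S : List ℕ) (n : ℕ) : Bool :=
  Nat.beq (M % (n * (n - 1))) 0 && (l.all (fun x => Nat.ble x.1 n) && (R.all (fun p => resB l p n) &&
    ((R.filter fun p => !(Nat.beq (n % p) 0)).isEmpty || toolB (R.filter fun p => !(Nat.beq (n % p) 0)) S (N / n))))

/-- conditions on the table -/
def tab (l : List (ℕ × ℕ)) (N : ℕ) (R S : List ℕ) : Bool :=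
  R.all (fun p => isPrimeB p && (Nat.beq (N % p) 0 && (!(Nat.beq (N % p ^ 2) 0) && !(Nat.beq p 2)))) &&
    ((cands l N).all (fun g => !(R.any fun p => Nat.beq (ordN g % p) 0) || S.contains (ordN g)) &&
      (Nat.blt N (2 ^ 199) && l.all (fun x => Nat.blt 0 x.2)))

theorem beq_iff {a b : ℕ} : Nat.beq a b = true ↔ a = b := by
  constructor
  · exact Nat.eq_of_beq_eq_true
  · rintro rfl; exact Nat.beq_refl a

theorem beq_false_iff {a b : ℕ} : Nat.beq a b = false ↔ a ≠ b := by
  rw [← Bool.not_eq_true, beq_iff]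

section Main

variable {G : Type u} {Ω : Type v} [Group G] [MulAction G Ω] {T : Subgroup G}

theorem chk_true (A : AS G Ω T) {e N : ℕ} (he : e ≤ 2) (ho : (MulAut.conj : ↥T →* MulAut ↥T).range.index ≤ e)
    (hN : Nat.card T = N) {l : List (ℕ × ℕ)} (hv : valid l N = true) {R S : List ℕ} (ht : tab l N R S = true)
    (hR : ∀ p ∈ R, NoInv ↥T p) (Tb : OrderTable.{u})
    (hS : ∀ (X : Type u) [Group X] [Finite X] [IsSimpleGroup X], IsKnownSimple' X) :
    chk l N (e * N) R S (Nat.card Ω) = true := by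
  classical
  have := A.finG
  have := A.finΩ
  have := A.finT
  set n := Nat.card Ω with hn
  have hn5 : 5 ≤ n := A.five_le
  unfold tab at ht
  rw [Bool.and_eq_true, Bool.and_eq_true, Bool.and_eq_true, List.all_eq_true, List.all_eq_true, List.all_eq_true] at ht
  obtain ⟨t1, t2, t3, t4⟩ := ht
  have t1' : ∀ p ∈ R, p.Prime ∧ p ∣ N ∧ ¬ p ^ 2 ∣ N ∧ p ≠ 2 := by
    intro p hp
    have := t1 p hp
    simp only [Bool.and_eq_true, Bool.not_eq_true', beq_iff, beq_false_iff] at this
    obtain ⟨a1, a2, a3, a4⟩ := this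
    exact ⟨prime_of a1, Nat.dvd_of_mod_eq_zero a2, fun h => a3 (Nat.mod_eq_zero_of_dvd h), a4⟩
  have hNpos : 0 < N := valid_pos hv
  have hN199 : N < 2 ^ 199 := by simpa [Nat.blt_eq] using t3
  obtain ⟨a0⟩ : Nonempty Ω := (Nat.card_pos_iff.1 (by omega : 0 < n)).1
  have hcard : n * Nat.card (stabilizer T a0) = N := by rw [← hN]; exact A.card_mul a0
  have hH : Nat.card (stabilizer T a0) = N / n := by
    rw [← hcard, Nat.mul_div_cancel_left _ (by omega)]
  unfold chk
  rw [Bool.and_eq_true, Bool.and_eq_true, Bool.and_eq_true]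
  refine ⟨?_, ?_, ?_, ?_⟩
  · rw [beq_iff]; exact Nat.mod_eq_zero_of_dvd (deg_dvd A he ho hN)
  · rw [List.all_eq_true]
    intro x hx
    rw [Nat.ble_eq]
    have hx0 : 0 < x.2 := by simpa [Nat.blt_eq] using t4 x hx
    refine prime_le A (valid_prime hv x hx) ?_
    rw [hN, ← valid_prod hv]
    refine (dvd_pow_self x.1 hx0.ne').trans ?_
    exact List.dvd_prod (List.mem_map.2 ⟨x, hx, rfl⟩)
  · rw [List.all_eq_true]
    intro p hp
    obtain ⟨p1, p2, p3, p4⟩ := t1' p hp
    unfold resB
    rw [Bool.or_eq_true, Nat.ble_eq]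
    rcases res A he ho hN p1 p4 p2 p3 (hR p hp) with h | h | ⟨f, h1, h2, h3, h4⟩
    · left
      rw [← hn] at h
      rw [Nat.mod_eq_zero_of_dvd h]; omega
    · left
      have h5 : n % p = 1 % p := by
        have : 1 ≡ n [MOD p] := (Nat.modEq_iff_dvd' (by omega)).2 h
        exact this.symm
      rw [h5]
      exact (Nat.mod_le _ _).trans (by omega)
    · rcases h4 with rfl | ⟨r, a, hr, hr2, ha, rfl⟩
      · left
        rw [← hn] at h1
        rw [← (show 2 % p = n % p from h1)]
        exact Nat.mod_le _ _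
      · right
        have h5 : r ^ a ∣ N := by
          have h6 : r ^ a ∣ e * N := (dvd_mul_right _ _).trans h3
          have he0 : e ≠ 0 := by
            rintro rfl
            have := (index_le A).trans ho
            have h5 : T.index ≠ 0 := FiniteIndex.index_ne_zero
            omega
          refine (Nat.Coprime.pow_left a ?_).dvd_of_dvd_mul_left h6
          rw [Nat.Prime.coprime_iff_not_dvd hr]
          intro h5
          have h6 := Nat.le_of_dvd (Nat.pos_of_ne_zero he0) h5
          have h7 := hr.two_le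
          omega
        obtain ⟨k, hk, hak⟩ := exists_pair hv hr ha h5
        rw [List.any_eq_true]
        refine ⟨(r, k), hk, ?_⟩
        rw [Bool.and_eq_true, List.any_eq_true, Bool.not_eq_true', beq_false_iff]
        refine ⟨hr2, a - 1, List.mem_range.2 (by simp only; omega), ?_⟩
        rw [beq_iff, Nat.sub_add_cancel ha]
        exact h1
  · rw [Bool.or_eq_true]
    by_cases hP : (R.filter fun p => !(Nat.beq (n % p) 0)).isEmpty = true
    · exact Or.inl hP
    right
    set L := R.filter fun p => !(Nat.beq (n % p) 0) with hL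
    have hLm : ∀ p, p ∈ L ↔ p ∈ R ∧ ¬ p ∣ n := by
      intro p
      rw [hL, List.mem_filter, Bool.not_eq_true', beq_false_iff]
      exact and_congr_right fun _ => not_congr ⟨Nat.dvd_of_mod_eq_zero, Nat.mod_eq_zero_of_dvd⟩
    have hPn : L.toFinset.Nonempty := by
      rw [List.toFinset_nonempty_iff]
      intro h
      rw [h] at hP
      exact hP rfl
    obtain ⟨a, b, s, c1, c2, c3, c4, c5⟩ := tool (X := ↥T) hN (stabilizer T a0) hcard L.toFinset hPn
      (fun p hp => by
        obtain ⟨h1, h2⟩ := (hLm p).1 (List.mem_toFinset.1 hp)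
        obtain ⟨p1, p2, p3, p4⟩ := t1' p h1
        exact ⟨p1, p2, p3, h2, hR p h1⟩)
    have hpow : ∀ {p k : ℕ}, (∃ i ≤ 0, 2 ^ k ≡ 2 ^ i [MOD p]) → Nat.beq (2 ^ k % p) (1 % p) = true := by
      rintro p k ⟨i, hi, h⟩
      have : i = 0 := by omega
      rw [this, pow_zero] at h
      rw [beq_iff]; exact h
    have hv2 : ∀ m, 0 < m → m ≤ N → v2 200 m = m.factorization 2 := fun m h1 h2 =>
      v2_eq 200 m h1 (by calc m ≤ N := h2
                           _ < 2 ^ 199 := hN199
                           _ < 2 ^ 200 := by norm_num)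
    have hvH : v2 200 (N / n) = (Nat.card (stabilizer T a0)).factorization 2 := by
      rw [hH]
      refine hv2 _ (Nat.div_pos (Nat.le_of_dvd hNpos ⟨_, hcard.symm⟩) (by omega)) (Nat.div_le_self _ _)
    have hvp : ∀ p ∈ L, v2 200 (p - 1) = (p - 1).factorization 2 := fun p hp => by
      obtain ⟨p1, p2, -, -⟩ := t1' p ((hLm p).1 hp).1
      have := p1.two_le
      have := Nat.le_of_dvd hNpos p2
      exact hv2 _ (by omega) (by omega)
    obtain ⟨q, hq, hb⟩ := c3
    rw [List.mem_toFinset] at hq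
    replace hb : b ≤ (q - 1).factorization 2 := hb
    unfold toolB
    rw [List.any_eq_true]
    refine ⟨a, List.mem_range.2 (by rw [hvH]; omega), ?_⟩
    rw [Bool.and_eq_true, List.all_eq_true, Bool.or_eq_true]
    refine ⟨fun p hp => hpow (c2 p (List.mem_toFinset.2 hp)), ?_⟩
    rcases c4 with rfl | ⟨⟨q', hq', hqs⟩, S', i1, i2, i3, i4, i5, i6⟩
    · left
      rw [List.any_eq_true]
      refine ⟨q, hq, ?_⟩
      rw [Nat.ble_eq, hvH, hvp q hq]
      rw [Nat.factorization_one, Finsupp.zero_apply] at c1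
      omega
    · right
      have hsN : s ∣ N := i6.trans ⟨n, by rw [← hcard]; ring⟩
      have hspos : 0 < s := Nat.pos_of_dvd_of_pos hsN hNpos
      have hvs : v2 200 s = s.factorization 2 := hv2 s hspos (Nat.le_of_dvd hNpos hsN)
      rw [List.any_eq_true]
      refine ⟨s, ?_, ?_⟩
      · obtain ⟨g, hg1, -, hg3⟩ := exists_good Tb (hS S') (fun h => i4 ⟨⟨h⟩⟩) hv (i5 ▸ hsN)
        have h5 := t2 g hg1
        rw [Bool.or_eq_true, Bool.not_eq_true'] at h5
        rw [← i5, hg3]
        rcases h5 with h5 | h5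
        · exfalso
          rw [List.any_eq_false] at h5
          refine h5 q' ((hLm q').1 (List.mem_toFinset.1 hq')).1 ?_
          rw [beq_iff, ← hg3, i5]
          exact Nat.mod_eq_zero_of_dvd hqs
        · simpa using h5
      · rw [Bool.and_eq_true, Bool.and_eq_true, Bool.and_eq_true, Bool.and_eq_true, List.any_eq_true, List.any_eq_true,
          List.all_eq_true, beq_iff, Nat.ble_eq]
        refine ⟨Nat.mod_eq_zero_of_dvd (hH ▸ i6), ⟨q', List.mem_toFinset.1 hq', ?_⟩, fun p hp => ?_, ?_, q, hq, ?_⟩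
        · rw [beq_iff]; exact Nat.mod_eq_zero_of_dvd hqs
        · rw [Bool.or_eq_true]
          rcases c5 p (List.mem_toFinset.2 hp) with h | h
          · left; rw [beq_iff]; exact Nat.mod_eq_zero_of_dvd h
          · right; rw [hvs]; exact hpow h
        · rw [hvs, hvH]; omega
        · rw [Nat.ble_eq, hvs, hvH, hvp q hq]; omega

end Main

/-! ### Enumeration of the degrees -/

/-- `g m && g (m p) && ... && g (m p ^ k)` -/
def loop (g : ℕ → Bool) (p : ℕ) : ℕ → ℕ → Bool
  | 0, m => g m
  | k + 1, m => g m && loop g p k (m * p)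

/-- `f` holds for all `m d`, `d` a divisor of the number with factorization `l` -/
def allD (f : ℕ → Bool) : List (ℕ × ℕ) → ℕ → Bool
  | [], m => f m
  | x :: l, m => loop (allD f l) x.1 x.2 m

theorem loop_spec {g : ℕ → Bool} {p : ℕ} : ∀ {k m : ℕ}, loop g p k m = true → ∀ i ≤ k, g (m * p ^ i) = true := by
  intro k
  induction k with
  | zero =>
    intro m h i hi
    have : i = 0 := by omega
    rw [this, pow_zero, mul_one]; exact h
  | succ k ih =>
    intro m h i hi
    unfold loop at h
    rw [Bool.and_eq_true] at h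
    rcases Nat.eq_zero_or_pos i with rfl | hi0
    · rw [pow_zero, mul_one]; exact h.1
    · have := ih h.2 (i - 1) (by omega)
      rwa [mul_assoc, ← pow_succ', Nat.sub_add_cancel hi0] at this

theorem allD_spec {f : ℕ → Bool} : ∀ {l : List (ℕ × ℕ)} {m : ℕ}, (∀ x ∈ l, (x.1).Prime) → allD f l m = true →
    ∀ d, d ∣ prodl l → f (m * d) = true := by
  intro l
  induction l with
  | nil =>
    intro m _ h d hd
    have : d = 1 := by
      have h1 : d ∣ 1 := by simpa [prodl] using hd
      exact Nat.dvd_one.1 h1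
    rw [this, mul_one]; exact h
  | cons x l ih =>
    intro m hl h d hd
    have h1 : prodl (x :: l) = x.1 ^ x.2 * prodl l := by simp [prodl]
    rw [h1] at hd
    obtain ⟨d1, d2, h2, h3, rfl⟩ := (Nat.dvd_mul).1 hd
    obtain ⟨i, hi, rfl⟩ := (Nat.dvd_prime_pow (hl x List.mem_cons_self)).1 h2
    have h4 := loop_spec (show loop (allD f l) x.1 x.2 m = true from h) i hi
    have := ih (fun y hy => hl y (List.mem_cons_of_mem _ hy)) h4 d2 h3
    rwa [mul_assoc] at this

/-- the test of `m` and `m + 1` -/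
def two (c : ℕ → Bool) (surv : List ℕ) (m : ℕ) : Bool :=
  (!(c m) || surv.contains m) && (!(c (m + 1)) || surv.contains (m + 1))

theorem mem_surv {l' : List (ℕ × ℕ)} {k N e : ℕ} (he : e ≤ 2) (he0 : e ≠ 0) (hv : valid ((2, k) :: l') N = true)
    {c : ℕ → Bool} {surv : List ℕ} (h : allD (two c surv) l' 1 = true) {n : ℕ} (hn : 0 < n)
    (hd : n * (n - 1) ∣ e * N) (hc : c n = true) : n ∈ surv := by
  have hpr : ∀ x ∈ l', (x.1).Prime := fun x hx => valid_prime hv x (List.mem_cons_of_mem _ hx)
  have hN : N = 2 ^ k * prodl l' := by rw [← valid_prod hv]; simp [prodl]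
  have key : ∀ m, Odd m → m ∣ e * N → m ∣ prodl l' := by
    intro m hm hmd
    have h1 : Nat.Coprime m (e * 2 ^ k) := by
      have h2 : Nat.Coprime m 2 := (Nat.coprime_two_right).2 hm
      have h3 : Nat.Coprime m e := by
        have : e = 1 ∨ e = 2 := by omega
        rcases this with rfl | rfl
        · exact Nat.coprime_one_right m
        · exact h2
      exact Nat.Coprime.mul_right h3 (Nat.Coprime.pow_right k h2)
    rw [hN, ← mul_assoc] at hmd
    exact h1.dvd_of_dvd_mul_left hmd
  rcases Nat.even_or_odd n with he' | ho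
  · have h1 : Odd (n - 1) := by
      rcases he' with ⟨j, hj⟩
      exact ⟨j - 1, by omega⟩
    have h2 := allD_spec hpr h (n - 1) (key _ h1 ((dvd_mul_left _ _).trans hd))
    rw [one_mul] at h2
    unfold two at h2
    rw [Bool.and_eq_true, Bool.or_eq_true, Bool.or_eq_true, Nat.sub_add_cancel hn, hc] at h2
    rcases h2.2 with h3 | h3
    · exact absurd h3 (by decide)
    · simpa using h3
  · have h2 := allD_spec hpr h n (key _ ho ((dvd_mul_right _ _).trans hd))
    rw [one_mul] at h2
    unfold two at h2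
    rw [Bool.and_eq_true, Bool.or_eq_true, Bool.or_eq_true, hc] at h2
    rcases h2.1 with h3 | h3
    · exact absurd h3 (by decide)
    · simpa using h3

section Final

variable {G : Type u} {Ω : Type v} [Group G] [MulAction G Ω] {T : Subgroup G}

/-- **the degree is in the list of survivors** -/
theorem main (A : AS G Ω T) {e N M k : ℕ} (he : e ≤ 2) (ho : (MulAut.conj : ↥T →* MulAut ↥T).range.index ≤ e)
    (hN : Nat.card T = N) (hM : e * N = M) {l' : List (ℕ × ℕ)} (hv : valid ((2, k) :: l') N = true) {R S : List ℕ}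
    (ht : tab ((2, k) :: l') N R S = true) (hR : ∀ p ∈ R, NoInv ↥T p) (Tb : OrderTable.{u})
    (hS : ∀ (X : Type u) [Group X] [Finite X] [IsSimpleGroup X], IsKnownSimple' X) {surv : List ℕ}
    (h : allD (two (chk ((2, k) :: l') N M R S) surv) l' 1 = true) : Nat.card Ω ∈ surv := by
  have he0 : e ≠ 0 := by
    rintro rfl
    have := A.finG
    have := (index_le A).trans ho
    have h5 : T.index ≠ 0 := FiniteIndex.index_ne_zero
    omega
  subst hM
  have := A.finΩ
  exact mem_surv he he0 hv h (by have := A.five_le; omega) (deg_dvd A he ho hN)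
    (chk_true A he ho hN hv ht hR Tb hS)

end Final

end Cfsg.Agent.H510.TwoCore
end

private theorem dce_8eff6be0b176 : _root_.True := by
  try have : _root_.True := by simp only [_root_.Cfsg.Agent.H510.TwoCore.loop.eq_def]
  try have : _root_.True := by simp only [_root_.Cfsg.Agent.H510.TwoCore.v2.eq_def]
  exact _root_.True.intro
end

-- part: H510/TwoTool
section
set_option linter.all false
open scoped Cfsg.Agent.FastGrp

/-!
# Tools for the rows of the sporadic groups (helper510, HUB H1 part P11)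

* `noInv_of_comm`, `noInv_of_card`, `noInv_of_classes`, `NoInv.congr` : how to get `NoInv X p`;
* `out_le` : the outer automorphism condition from `Nat.card (Out Y)`.
-/

set_option autoImplicit false

namespace Cfsg.Agent.H510.TwoCore

open MulAction Subgroup Cfsg.Agent.H384.TwoTrans Cfsg Cfsg.Agent.OrdDiv

/-- no element of order `p` commutes with an involution -/
theorem noInv_of_comm {X : Type*} [Group X] [Finite X] {p : ℕ} (hp : p.Prime)
    (h : ∀ t y : X, orderOf t = 2 → orderOf y = p → t * y = y * t → False) : NoInv X p := by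
  intro t ht hd
  have := Fact.mk hp
  obtain ⟨y, hy⟩ := exists_prime_orderOf_dvd_card' p hd
  exact h t y ht (by rw [← hy]; exact Subgroup.orderOf_coe y) (mem_centralizer_singleton_iff.1 y.2).symm

theorem NoInv.not_comm {X : Type*} [Group X] [Finite X] {p : ℕ} (h : NoInv X p) {t y : X} (ht : orderOf t = 2)
    (hy : orderOf y = p) : t * y ≠ y * t := by
  intro hc
  apply h t ht
  have hy' : y ∈ centralizer ({t} : Set X) := by rw [mem_centralizer_singleton_iff]; exact hc.symm
  have h3 := orderOf_dvd_natCard (⟨y, hy'⟩ : ↥(centralizer ({t} : Set X)))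
  rwa [← Subgroup.orderOf_coe, hy] at h3

theorem NoInv.congr {X Y : Type*} [Group X] [Finite X] [Group Y] {p : ℕ} (hp : p.Prime) (e : X ≃* Y)
    (h : NoInv Y p) : NoInv X p := by
  have : Finite Y := Finite.of_equiv _ e.toEquiv
  refine noInv_of_comm hp fun t y ht hy hc => ?_
  exact h.not_comm (t := e t) (y := e y) (by rw [e.orderOf_eq, ht]) (by rw [e.orderOf_eq, hy])
    (by rw [← map_mul, ← map_mul, hc])

theorem card_centralizer_conj {X : Type*} [Group X] {a b : X} (h : IsConj a b) :
    Nat.card ↥(centralizer ({b} : Set X)) = Nat.card ↥(centralizer ({a} : Set X)) := by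
  obtain ⟨g, rfl⟩ := isConj_iff.1 h
  have : centralizer ({g * a * g⁻¹} : Set X) = (centralizer ({a} : Set X)).map (MulAut.conj g).toMonoidHom := by
    ext y
    simp only [mem_map, mem_centralizer_singleton_iff, MulEquiv.coe_toMonoidHom, MulAut.conj_apply]
    constructor
    · intro hy
      refine ⟨g⁻¹ * y * g, ?_, by group⟩
      calc g⁻¹ * y * g * a = g⁻¹ * (y * (g * a * g⁻¹)) * g := by group
        _ = a * (g⁻¹ * y * g) := by rw [hy]; group
    · rintro ⟨x, hx, rfl⟩
      calc g * x * g⁻¹ * (g * a * g⁻¹) = g * (x * a) * g⁻¹ := by group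
        _ = g * a * g⁻¹ * (g * x * g⁻¹) := by rw [hx]; group
  rw [this]
  exact Nat.card_congr (equivMapOfInjective _ _ (MulAut.conj g).injective).symm.toEquiv

/-- every involution is conjugate to a member of a list of elements with known centralizer orders -/
theorem noInv_of_classes {X : Type*} [Group X] {p : ℕ} (L : Set X) (hL : ∀ a ∈ L, ¬ p ∣ Nat.card ↥(centralizer ({a} : Set X)))
    (h : ∀ t : X, orderOf t = 2 → ∃ a ∈ L, IsConj a t) : NoInv X p := by
  intro t ht
  obtain ⟨a, ha, hc⟩ := h t ht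
  rw [card_centralizer_conj hc]
  exact hL a ha

/-- the outer automorphism condition -/
theorem out_le {X Y : Type*} [Group X] [Group Y] (e : X ≃* Y) {n : ℕ} (h : Nat.card (Cfsg.Out Y) = n) :
    (MulAut.conj : X →* MulAut X).range.index ≤ n := by
  have h1 : (MulAut.conj : Y →* MulAut Y).range =
      (MulAut.conj : X →* MulAut X).range.map (MulAut.congr e).toMonoidHom := by
    ext f
    constructor
    · rintro ⟨y, rfl⟩
      refine ⟨MulAut.conj (e.symm y), ⟨_, rfl⟩, ?_⟩
      ext z
      show e (e.symm y * e.symm z * (e.symm y)⁻¹) = y * z * y⁻¹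
      simp
    · rintro ⟨_, ⟨x, rfl⟩, rfl⟩
      refine ⟨e x, ?_⟩
      ext z
      show e x * z * (e x)⁻¹ = e (x * e.symm z * x⁻¹)
      simp
  have h2 : (MulAut.conj : X →* MulAut X).range.index = (MulAut.conj : Y →* MulAut Y).range.index := by
    rw [h1]
    exact (Subgroup.index_map_of_bijective (f := (MulAut.congr e).toMonoidHom) (MulAut.congr e).bijective _).symm
  rw [h2]
  exact le_of_eq h

theorem sq_ne_of_orderOf {X : Type*} [Group X] {t : X} (ht : orderOf t = 2) : t * t = 1 ∧ t ≠ 1 := by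
  constructor
  · rw [← pow_two, ← ht, pow_orderOf_eq_one]
  · intro h
    rw [h, orderOf_one] at ht
    exact absurd ht (by norm_num)

end Cfsg.Agent.H510.TwoCore
end

-- part: H436/StabData
section
set_option linter.all false
open scoped Cfsg.Agent.FastGrp

/-!
# The data of `H970.StabNum` from the orders of centralizers (helper436)
-/

set_option autoImplicit false

namespace Cfsg.Agent.H436.StabData

open Subgroup Cfsg Cfsg.Agent.H970.StabNum

universe u

theorem card_centralizer_equiv {T H : Type*} [Group T] [Group H] (e : T ≃* H) (x : T) :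
    Nat.card ↥(centralizer ({x} : Set T)) = Nat.card ↥(centralizer ({e x} : Set H)) := by
  refine Nat.card_congr
    { toFun := fun c => ⟨e c, ?_⟩
      invFun := fun c => ⟨e.symm c, ?_⟩
      left_inv := fun c => Subtype.ext (e.symm_apply_apply _)
      right_inv := fun c => Subtype.ext (e.apply_symm_apply _) }
  · rw [mem_centralizer_singleton_iff, ← map_mul, ← map_mul, mem_centralizer_singleton_iff.1 c.2]
  · rw [mem_centralizer_singleton_iff]
    apply e.injective
    rw [map_mul, map_mul, e.apply_symm_apply]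
    exact mem_centralizer_singleton_iff.1 c.2

theorem card_cent_le {G : Type*} [Group G] [Finite G] {p : ℕ} {x y u : G} (hx : orderOf x = p) (hy : orderOf y = p)
    (hu : u * x * u⁻¹ ∈ zpowers y) :
    Nat.card ↥(centralizer ({x} : Set G)) ≤ Nat.card ↥(centralizer ({y} : Set G)) := by
  have ho : orderOf (u * x * u⁻¹) = p := by
    rw [← MulAut.conj_apply, MulEquiv.orderOf_eq, hx]
  have h1 : y ∈ zpowers (u * x * u⁻¹) := by
    have h2 : zpowers (u * x * u⁻¹) = zpowers y := by
      apply Subgroup.eq_of_le_of_card_ge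
      · rwa [zpowers_le]
      · rw [Nat.card_zpowers, Nat.card_zpowers, ho, hy]
    rw [h2]
    exact mem_zpowers y
  obtain ⟨n, hn⟩ := mem_zpowers_iff.1 h1
  refine Nat.card_le_card_of_injective (fun c : ↥(centralizer ({x} : Set G)) =>
    (⟨u * c * u⁻¹, ?_⟩ : ↥(centralizer ({y} : Set G)))) ?_
  · rw [mem_centralizer_singleton_iff, ← hn]
    have h3 : Commute (u * (c : G) * u⁻¹) (u * x * u⁻¹) := by
      have h4 := mem_centralizer_singleton_iff.1 c.2
      calc (u * (c : G) * u⁻¹) * (u * x * u⁻¹) = u * ((c : G) * x) * u⁻¹ := by group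
        _ = u * (x * (c : G)) * u⁻¹ := by rw [h4]
        _ = (u * x * u⁻¹) * (u * (c : G) * u⁻¹) := by group
    exact (h3.zpow_right n).eq
  · intro c d h
    apply Subtype.ext
    have h2 : u * (c : G) * u⁻¹ = u * (d : G) * u⁻¹ := congrArg Subtype.val h
    exact mul_left_cancel (mul_right_cancel h2)

/-- all elements of order `p` (`p ∥ |H|`) have centralizers of the same order -/
theorem card_cent_eq {H : Type*} [Group H] [Finite H] {p : ℕ} (hp : p.Prime) (h2 : ¬ p ^ 2 ∣ Nat.card H) {x y : H}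
    (hx : orderOf x = p) (hy : orderOf y = p) :
    Nat.card ↥(centralizer ({x} : Set H)) = Nat.card ↥(centralizer ({y} : Set H)) := by
  have hf : Fact p.Prime := ⟨hp⟩
  obtain ⟨g, hg⟩ := Cfsg.Agent.CpAutON.Gen.conj_into h2 hx hy
  obtain ⟨g', hg'⟩ := Cfsg.Agent.CpAutON.Gen.conj_into h2 hy hx
  exact le_antisymm (card_cent_le hx hy hg) (card_cent_le hy hx hg')

/-- centralizers and normalizers of the subgroups of order `p` -/
theorem cent {T H : Type*} [Group T] [Group H] [Finite T] (e : T ≃* H) {p k : ℕ} (hp : p.Prime)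
    (h : ∀ x : H, orderOf x = p → Nat.card ↥(centralizer ({x} : Set H)) ∣ p * k) (P : Subgroup T)
    (hP : Nat.card P = p) :
    Nat.card ↥(centralizer (P : Set T)) ∣ p * k ∧ Nat.card ↥(normalizer (P : Set T)) ∣ p * (k * (p - 1)) := by
  have hf : Fact p.Prime := ⟨hp⟩
  obtain ⟨x, hx⟩ := exists_prime_orderOf_dvd_card' (G := P) p (by rw [hP])
  have hxo : orderOf (x : T) = p := by rw [Subgroup.orderOf_coe, hx]
  have hzp : zpowers (x : T) = P := by
    apply Subgroup.eq_of_le_of_card_ge
    · rw [zpowers_le]; exact x.2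
    · rw [Nat.card_zpowers, hxo, hP]
  have hc : Nat.card ↥(centralizer ({(x : T)} : Set T)) ∣ p * k := by
    rw [card_centralizer_equiv e]
    exact h _ (by rw [MulEquiv.orderOf_eq, hxo])
  have hcz : centralizer ((zpowers (x : T) : Subgroup T) : Set T) = centralizer ({(x : T)} : Set T) := by
    rw [zpowers_eq_closure, centralizer_closure]
  rw [← hzp]
  refine ⟨by rw [hcz]; exact hc, ?_⟩
  rw [Cfsg.Agent.CpAutON.Gen.card_normalizer, ← mul_assoc]
  refine mul_dvd_mul hc ?_
  rw [← Cfsg.Agent.CpAutON.Gen.card_mulAut hxo]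
  exact card_subgroup_dvd_card _

/-- the outer automorphism condition, divisibility -/
theorem out_dvd {X Y : Type*} [Group X] [Group Y] (e : X ≃* Y) {n : ℕ} (h : Nat.card (Cfsg.Out Y) = n) (hn : n = 1 ∨ n = 2)
    (hX : (MulAut.conj : X →* MulAut X).range.index ≠ 0) :
    (MulAut.conj : X →* MulAut X).range.index ∣ n := by
  have h1 := Cfsg.Agent.H510.TwoCore.out_le e h
  rcases hn with rfl | rfl
  · have : (MulAut.conj : X →* MulAut X).range.index = 1 := by omega
    rw [this]
  · have : (MulAut.conj : X →* MulAut X).range.index = 1 ∨ (MulAut.conj : X →* MulAut X).range.index = 2 := by omega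
    rcases this with h2 | h2 <;> rw [h2]
    exact one_dvd _

end Cfsg.Agent.H436.StabData
end
end
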