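import Cfsg.Agent.H148.Ru.CentSeven
import Cfsg.Agent.H436.StabData
import Cfsg.Agent.H603.SporElim
import Cfsg.Agent.S2077
import Cfsg.Agent.Prune
set_option linter.all false
prune_inst 0x7f00000000000000000000000000000000000000000000000000000000000000000000000000000000000000000000000000000000000000000000000000000000000000000000000000000000000000003fffffffffffffffffffffffffffbeffbdffffffff
open scoped Cfsg.Agent.FastGrp

/-!
# `Ru` has no 2-transitive action (helper436, HUB H1 part P11)
-/

set_option autoImplicit false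

namespace Cfsg.Agent.H436.TwoRu

open MulAction Subgroup Cfsg.Agent.H384.TwoTrans Cfsg Cfsg.Agent.SporadicB Cfsg.Agent.RuD.Letters
open Cfsg.Agent.SporRec.TCUpperCert Cfsg.Agent.KFacts.Ru Cfsg.Agent.KFacts.Ru.CentEng
open Cfsg.Agent.H970.StabNum Cfsg.Agent.H970.TwoSpor Cfsg.Agent.OrdDiv

universe u v

def l : List (ℕ × ℕ) := [(2, 14), (3, 3), (5, 3), (7, 1), (13, 1), (29, 1)]
def N : ℕ := 145926144000
def data : List (ℕ × ℕ × ℕ) := [(29, 1, 28), (13, 4, 48)]
def ps : List ℕ := [2, 3, 5, 7, 13, 29]
def tbl : List ℕ := [60, 360, 2520, 20160, 168, 504, 262080, 5616, 9828, 7800, 1092, 12180, 62400, 6048,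
  126000, 251596800, 29120, 17971200, 604800, 145926144000]

theorem hv : valid l N = true := by decide +kernel
theorem ht : ((cands l N).all fun g => tbl.contains (ordN g)) = true := by decide +kernel
theorem hs : survives N 1 [1] l data ps tbl = [] := by decide +kernel

theorem card_H : Nat.card RuOrder.H = 145926144000 := RuOrder.card_H

theorem isoH : Spor.IsoRu RuOrder.H := ⟨RuLat.Main.equiv.symm⟩

theorem cen_eq (w : List ℕ) : centralizer ({wprod ml w} : Set RuOrder.H) = Cen [w] := by
  ext x
  rw [mem_centralizer_singleton_iff, mem_Cen]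
  simp

theorem finite_H : Finite RuOrder.H := CpAutRuFive.finite_H

/-- all elements of order `p` have centralizers of the same order -/
theorem card_eq_of {p : ℕ} (hp : p.Prime) (h2 : ¬ p ^ 2 ∣ 145926144000) {x y : RuOrder.H} (hx : orderOf x = p)
    (hy : orderOf y = p) : Nat.card ↥(centralizer ({x} : Set RuOrder.H)) = Nat.card ↥(centralizer ({y} : Set RuOrder.H)) := by
  have := finite_H
  exact StabData.card_cent_eq hp (by rw [card_H]; exact h2) hx hy

theorem exists_ne : ∃ a : RuB.A4, a ≠ 0 := ⟨1, by decide⟩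

theorem cent29 (x : RuOrder.H) (hx : orderOf x = 29) : Nat.card ↥(centralizer ({x} : Set RuOrder.H)) ∣ 29 * 1 := by
  have := finite_H
  rw [card_eq_of (by norm_num) (by norm_num) hx RuCent.orderA]
  have h1 : Nat.card ↥(centralizer ({wprod ml RuCent.wA} : Set RuOrder.H)) ≤ 58 := by
    rw [cen_eq]; exact RuCent.card_A
  have h2 : 29 ∣ Nat.card ↥(centralizer ({wprod ml RuCent.wA} : Set RuOrder.H)) := by
    have h3 : (wprod ml RuCent.wA : RuOrder.H) ∈ centralizer ({wprod ml RuCent.wA} : Set RuOrder.H) :=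
      mem_centralizer_singleton_iff.2 rfl
    have := Subgroup.orderOf_dvd_natCard _ h3
    rwa [RuCent.orderA] at this
  have h3 : ¬ 2 ∣ Nat.card ↥(centralizer ({wprod ml RuCent.wA} : Set RuOrder.H)) := by
    intro h
    have hf : Fact (Nat.Prime 2) := ⟨Nat.prime_two⟩
    obtain ⟨t, ht⟩ := exists_prime_orderOf_dvd_card' 2 h
    rw [← Subgroup.orderOf_coe] at ht
    exact H393.Iso.na_ru isoH _ _ RuCent.orderA ht (mem_centralizer_singleton_iff.1 t.2).symm
  obtain ⟨c, hc⟩ := h2
  have hc0 : Nat.card ↥(centralizer ({wprod ml RuCent.wA} : Set RuOrder.H)) ≠ 0 := Nat.card_pos.ne'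
  rw [hc] at h1 h3 hc0 ⊢
  have hc2 : c ≤ 2 := by omega
  interval_cases c <;> omega

theorem cent13 (x : RuOrder.H) (hx : orderOf x = 13) : Nat.card ↥(centralizer ({x} : Set RuOrder.H)) ∣ 13 * 4 := by
  have := finite_H
  have hf2 : Fact (Nat.Prime 2) := ⟨Nat.prime_two⟩
  have hf13 : Fact (Nat.Prime 13) := ⟨by norm_num⟩
  have h1 : Nat.card ↥(centralizer ({x} : Set RuOrder.H)) ≤ 52 := by
    rw [card_eq_of (by norm_num) (by norm_num) hx RuCent.orderB, cen_eq]; exact RuCent.card_B
  have h2 : 13 ∣ Nat.card ↥(centralizer ({x} : Set RuOrder.H)) := by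
    have h3 : x ∈ centralizer ({x} : Set RuOrder.H) := mem_centralizer_singleton_iff.2 rfl
    have := Subgroup.orderOf_dvd_natCard _ h3
    rwa [hx] at this
  have h3 : 2 ∣ Nat.card ↥(centralizer ({x} : Set RuOrder.H)) := by
    obtain ⟨C, -⟩ := KFacts.Ru.exists_core isoH
    obtain ⟨a, ha⟩ := exists_ne
    have hv := RuB.Local.card_cent_v (C := C) ha
    obtain ⟨y, hy⟩ := exists_prime_orderOf_dvd_card' (G := ↥(centralizer ({C.v a} : Set RuOrder.H))) 13
      (by rw [hv]; norm_num)
    rw [← Subgroup.orderOf_coe] at hy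
    rw [card_eq_of (by norm_num) (by norm_num) hx hy]
    have h4 : C.v a ∈ centralizer ({(y : RuOrder.H)} : Set RuOrder.H) := by
      rw [mem_centralizer_singleton_iff]
      exact (mem_centralizer_singleton_iff.1 y.2).symm
    have h5 : orderOf (C.v a) = 2 := orderOf_eq_prime (by rw [pow_two]; exact C.v_sq a)
      (fun h => ha (C.v_eq_one h))
    have := Subgroup.orderOf_dvd_natCard _ h4
    rwa [h5] at this
  have h4 : 26 ∣ Nat.card ↥(centralizer ({x} : Set RuOrder.H)) :=
    Nat.Coprime.mul_dvd_of_dvd_of_dvd (by norm_num : Nat.Coprime 2 13) h3 h2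
  obtain ⟨c, hc⟩ := h4
  have hc0 : Nat.card ↥(centralizer ({x} : Set RuOrder.H)) ≠ 0 := Nat.card_pos.ne'
  rw [hc] at h1 hc0 ⊢
  have hc2 : c ≤ 2 := by omega
  interval_cases c
  · omega
  · norm_num
  · norm_num

variable {G : Type u} {Ω : Type v} [Group G] [MulAction G Ω] {T : Subgroup G}

theorem mkData {X : Type u} [Group X] (e : X ≃* RuOrder.H) (Tb : OrderTable.{u})
    (hS : ∀ (X : Type u) [Group X] [Finite X] [IsSimpleGroup X], IsKnownSimple' X) : Data X data ps tbl := by
  have hfH := finite_H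
  have hf : Finite X := Finite.of_equiv _ e.symm.toEquiv
  have hN : Nat.card X = 145926144000 := by rw [Nat.card_congr e.toEquiv, card_H]
  refine ⟨hf, by rw [hN]; norm_num, ?_, ?_, ?_, ?_⟩
  · intro x hx
    simp only [data, List.mem_cons, List.not_mem_nil, or_false] at hx
    rw [hN]
    rcases hx with rfl | rfl <;> norm_num
  · intro x hx P hP
    simp only [data, List.mem_cons, List.not_mem_nil, or_false] at hx
    rcases hx with rfl | rfl
    · exact StabData.cent e (by norm_num) cent29 P hP
    · exact StabData.cent e (by norm_num) cent13 P hP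
  · intro r hr
    simp only [ps, List.mem_cons, List.not_mem_nil, or_false] at hr
    rcases hr with rfl | rfl | rfl | rfl | rfl | rfl <;> norm_num
  · intro K _ _ hK hna hd
    exact mem_tbl Tb hS hv ht K hK hna (by rwa [hN] at hd)

/-- **Row `Ru` of HUB H1.** -/
theorem row (A : AS G Ω T) (h : Spor.IsoRu ↥T) (Tb : OrderTable.{u})
    (hS : ∀ (X : Type u) [Group X] [Finite X] [IsSimpleGroup X], IsKnownSimple' X) : False := by
  have := A.finG
  obtain ⟨e⟩ := h
  have hI : (MulAut.conj : ↥T →* MulAut ↥T).range.index ≠ 0 := by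
    have : Finite (MulAut ↥T) := Finite.of_injective (fun f : MulAut ↥T => (f : ↥T → ↥T)) DFunLike.coe_injective
    exact FiniteIndex.index_ne_zero
  have ho := StabData.out_dvd e Cfsg.Agent.S2077.result (Or.inl rfl) hI
  have hm := mem_survives (out := 1) (js := [1]) A (NotCT.Orders.ru ⟨e⟩) (card_dvd A ho)
    (fun j hj => by rw [Nat.dvd_one.1 hj]; exact List.mem_cons_self) hv (mkData (e.trans RuLat.Main.equiv) Tb hS)
  rw [show (145926144000 : ℕ) = N from rfl, hs] at hm
  exact absurd hm List.not_mem_nil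

end Cfsg.Agent.H436.TwoRu

private theorem dce_15b22a1292cd : _root_.True := by
  try have : _root_.True := by simp only [_root_.Cfsg.Agent.H436.TwoRu.ps.eq_1]
  try have : _root_.True := by simp only [_root_.Cfsg.Agent.H436.TwoRu.data.eq_1]
  exact _root_.True.intro
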